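import Mathlib
import Cfsg.Agent.R2.H22.NR_m3
import Cfsg.Agent.S5927
import Cfsg.Agent.S5928
import Cfsg.Agent.S0252
import Cfsg.Agent.S0253
import Cfsg.Agent.S0254
import Cfsg.Agent.R2.H22.P11_m3
import Cfsg.Agent.R2.H8.NoFix.Pat_m3
import Cfsg.Agent.R2.H8.Core.Main
import Cfsg.Agent.R2.H22.Q7
import Cfsg.Agent.Prune
set_option linter.all false

section
prune_inst 0x7fffffffbbfffddfffff7e7fafdcdffc3b931fffe6dff94bffe2ebff3b7fb39c09edfbad8de0f0fe0ef7e21d18b87853f97eea3feb6bdc7ffffd5ff41ffbee2ff5f7b51971f78d34dfbc0fff83f0778e7f3fffffffffffffffffffffffffffaeffbfffffffff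

-- part: R2/H8/Core/Fin
section
prune_inst 0x5002000180202000000000800000000000800800c2000000000a0000100000800040030000000000000000000000000000001180080000000000000a000100000000000000000000000000000000000000000000000000000000
set_option linter.all false
open scoped Cfsg.Agent.FastGrp

-- part: R2/H9/E6/Asm
section
/-!
# S5749, S5750: reduction to the configuration (helper9)
-/

set_option autoImplicit false

namespace Cfsg.Agent.R2.H9.E6

open Cfsg Cfsg.Lie Matrix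
open Cfsg.Agent.ChevalleyStructure.E6Min.Basic

universe u v

/-- small fields -/
theorem small_cases {K : Type v} [Field K] [Fintype K] {p a : ℕ} (hp : p.Prime) (ha : 1 ≤ a)
    (hK : Fintype.card K = p ^ a) (h4 : 4 ≤ Fintype.card K) :
    (7 ≤ Fintype.card K ∧ Fintype.card K ≠ 9) ∨
      (p < 7 ∧ ∃ n, 5 ≤ n ∧ Nonempty (ProjectiveSpecialLinearGroup (Fin 2) K ≃* alternatingGroup (Fin n))) := by
  have hpd : p ∣ Fintype.card K := by rw [hK]; exact dvd_pow_self p (by omega)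
  by_cases h9 : Fintype.card K = 9
  · right
    have h3 : p = 3 := by
      rw [h9] at hpd
      exact (Nat.prime_dvd_prime_iff_eq hp Nat.prime_three).1 (hp.dvd_of_dvd_pow (show p ∣ 3 ^ 2 from hpd))
    exact ⟨by omega, 6, by norm_num, S0254.result h9⟩
  by_cases h7 : 7 ≤ Fintype.card K
  · exact Or.inl ⟨h7, h9⟩
  right
  have h : Fintype.card K = 4 ∨ Fintype.card K = 5 ∨ Fintype.card K = 6 := by omega
  rcases h with h | h | h
  · have h3 : p = 2 := by
      rw [h] at hpd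
      exact (Nat.prime_dvd_prime_iff_eq hp Nat.prime_two).1 (hp.dvd_of_dvd_pow (show p ∣ 2 ^ 2 from hpd))
    exact ⟨by omega, 5, le_rfl, S0252.result h⟩
  · have h3 : p = 5 := by
      rw [h] at hpd
      exact (Nat.prime_dvd_prime_iff_eq hp Nat.prime_five).1 hpd
    exact ⟨by omega, 5, le_rfl, S0253.result h⟩
  · exfalso
    have h6 : ¬ IsPrimePow 6 := by
      intro h6
      rw [isPrimePow_nat_iff] at h6
      obtain ⟨r, k, hr, hk, h7⟩ := h6
      have h2 : 2 ∣ r ^ k := by rw [h7]; norm_num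
      have h3 : 3 ∣ r ^ k := by rw [h7]; norm_num
      have h2' := (Nat.prime_dvd_prime_iff_eq Nat.prime_two hr).1 (Nat.prime_two.dvd_of_dvd_pow h2)
      have h3' := (Nat.prime_dvd_prime_iff_eq Nat.prime_three hr).1 (Nat.prime_three.dvd_of_dvd_pow h3)
      omega
    apply h6
    rw [← h, hK]
    exact hp.isPrimePow.pow (by omega)

/-- **S5749 from the configuration** -/
theorem e6_of_core {F : Type u} [Field F] [Fintype F] (p : ℕ) [Fact p.Prime] [CharP F p]
    (H : Subgroup (chevE6.group F)) (hH : IsCoatom H) {K : Type v} [Field K] [Fintype K] (a : ℕ) (ha : 1 ≤ a)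
    (hK : Fintype.card K = p ^ a)
    (core : ∀ (b : ℕ) (M : Subgroup ↥(Zgrp F)) (ψ : ProjectiveSpecialLinearGroup (Fin 2) K →* ↥(Zgrp F)),
      Fintype.card F = p ^ b → Cfg p a b ⊤ M ψ → False) :
    IsEmpty (generalizedFittingSubgroup H ≃* ProjectiveSpecialLinearGroup (Fin 2) K) := by
  refine ⟨fun e => ?_⟩
  have hp : p.Prime := Fact.out
  have h4 := four_le_of_genFitting e
  rcases small_cases hp ha hK h4 with ⟨h7, h9⟩ | ⟨hp7, n, hn, ⟨e'⟩⟩
  · obtain ⟨b, M, ψ, hC, hF⟩ := cfg_e6 hp inferInstance hH ha hK h7 h9 ⟨e⟩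
    exact core b M ψ hF hC
  · have h := S5927.result p H hH n hn ⟨e.trans e'⟩
    omega

/-- **S5750 from the configuration** -/
theorem tw_of_core {L : Type u} [Field L] [Fintype L] (p b : ℕ) [Fact p.Prime] (hb : 1 ≤ b)
    (hL : Fintype.card L = (p ^ b) ^ 2)
    (H : Subgroup (twistedE6 L (p ^ b))) (hH : IsCoatom H) {K : Type v} [Field K] [Fintype K] (a : ℕ) (ha : 1 ≤ a)
    (hK : Fintype.card K = p ^ a)
    (core : ∀ (Γ M : Subgroup ↥(Zgrp L)) (ψ : ProjectiveSpecialLinearGroup (Fin 2) K →* ↥(Zgrp L)),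
      Cfg p a b Γ M ψ → SemiG (p ^ b) Γ → False) :
    IsEmpty (generalizedFittingSubgroup H ≃* ProjectiveSpecialLinearGroup (Fin 2) K) := by
  refine ⟨fun e => ?_⟩
  have hp : p.Prime := Fact.out
  have h4 := four_le_of_genFitting e
  rcases small_cases hp ha hK h4 with ⟨h7, h9⟩ | ⟨hp7, n, hn, ⟨e'⟩⟩
  · obtain ⟨Γ, M, ψ, hC, hJ⟩ := cfg_tw hp hb hL hH ha hK h7 h9 ⟨e⟩
    exact core Γ M ψ hC hJ
  · have h := S5928.result p b hb hL H hH n hn ⟨e.trans e'⟩
    omega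

end Cfsg.Agent.R2.H9.E6
end

-- part: R2/H9/E6/EN
section
/-!
# Submodules `V_{4 p^i}` : the covariants of degree 2 (helper9)

`inSoc_four` : if `V_{4 p^i}` is a submodule of `V`, then it is a submodule of `V'` (`p ≥ 5`, `p ≠ 7`, `q ≥ 9`).
-/

set_option autoImplicit false
set_option linter.unusedSectionVars false
set_option linter.unusedSimpArgs false

namespace Cfsg.Agent.R2.H9.E6.Nsp

open Matrix Cfsg.Agent.H943.SL2Rel Cfsg.Agent.H943.SL2Mod Cfsg.Agent.H943.RepAdd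
open Cfsg.Lie Cfsg.Agent.R2.H28.SL2 Cfsg.Agent.R2.H22.Loc
open Cfsg.Agent.ChevalleyStructure Cfsg.Agent.ChevalleyStructure.E6Form.Cubic
  Cfsg.Agent.ChevalleyStructure.E6Form.Table
open Cfsg.Agent.ChevalleyStructure.E6Min.Basic (Zgrp)
open Cfsg.Agent.H952.F4 (sh cr tf)
open Cfsg.Agent.H952.F4.Jord
open Cfsg.Agent.H163.E6 (V V')
open Cfsg.Agent.R2.GEO (Pair crB crB_apply tfB tfB_apply)

universe u v w

attribute [local irreducible] Cfsg.Agent.H952.F4.cr Cfsg.Agent.H952.F4.sh Cfsg.Agent.H952.F4.tf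

section comb

variable {k : Type u} [Field k] {E : Type v} [AddCommGroup E] [Module k E]

theorem half_zero (h3 : (3 : k) ≠ 0) (h2 : (2 : k) ≠ 0) {b : ℕ → ℕ → E} (hs : ∀ n m, b n m = b m n)
    (R : ∀ x ≤ 4, ∀ y ≤ 4, ∀ z ≤ 4, ∀ t ≤ 4, b (x + y) (z + t) + b (x + z) (y + t) + b (x + t) (y + z) = 0) :
    ∀ n m, n + m ≤ 8 → b n m = 0 := by
  have s3 : ∀ x : E, (3 : k) • x = 0 → x = 0 := fun x hx => (smul_eq_zero.1 hx).resolve_left h3
  have s2 : ∀ x : E, (2 : k) • x = 0 → x = 0 := fun x hx => (smul_eq_zero.1 hx).resolve_left h2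
  have r0000 : b 0 0 + b 0 0 + b 0 0 = 0 := by
    have h := R 0 (by norm_num) 0 (by norm_num) 0 (by norm_num) 0 (by norm_num)
    simp only [Nat.reduceAdd] at h
    linear_combination (norm := module) h
  have b00 : b 0 0 = 0 := s3 _ (by linear_combination (norm := module) (1 : k) • r0000)
  have r1000 : b 1 0 + b 1 0 + b 1 0 = 0 := by
    have h := R 1 (by norm_num) 0 (by norm_num) 0 (by norm_num) 0 (by norm_num)
    simp only [Nat.reduceAdd] at h
    linear_combination (norm := module) h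
  have b10 : b 1 0 = 0 := s3 _ (by linear_combination (norm := module) (1 : k) • r1000)
  have r1100 : b 2 0 + b 1 1 + b 1 1 = 0 := by
    have h := R 1 (by norm_num) 1 (by norm_num) 0 (by norm_num) 0 (by norm_num)
    simp only [Nat.reduceAdd] at h
    linear_combination (norm := module) h
  have r2000 : b 2 0 + b 2 0 + b 2 0 = 0 := by
    have h := R 2 (by norm_num) 0 (by norm_num) 0 (by norm_num) 0 (by norm_num)
    simp only [Nat.reduceAdd] at h
    linear_combination (norm := module) h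
  have b20 : b 2 0 = 0 := s3 _ (by linear_combination (norm := module) (1 : k) • r2000)
  have b11 : b 1 1 = 0 := s2 _ (s3 _ (by linear_combination (norm := module) (3 : k) • r1100 + (-1 : k) • r2000))
  have r1110 : b 2 1 + b 2 1 + b 2 1 = 0 := by
    have h := R 1 (by norm_num) 1 (by norm_num) 1 (by norm_num) 0 (by norm_num)
    simp only [Nat.reduceAdd] at h
    linear_combination (norm := module) h - hs 1 2
  have r2100 : b 3 0 + b 2 1 + b 2 1 = 0 := by
    have h := R 2 (by norm_num) 1 (by norm_num) 0 (by norm_num) 0 (by norm_num)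
    simp only [Nat.reduceAdd] at h
    linear_combination (norm := module) h
  have b30 : b 3 0 = 0 := s3 _ (by linear_combination (norm := module) (-2 : k) • r1110 + (3 : k) • r2100)
  have b21 : b 2 1 = 0 := s3 _ (by linear_combination (norm := module) (1 : k) • r1110)
  have r1111 : b 2 2 + b 2 2 + b 2 2 = 0 := by
    have h := R 1 (by norm_num) 1 (by norm_num) 1 (by norm_num) 1 (by norm_num)
    simp only [Nat.reduceAdd] at h
    linear_combination (norm := module) h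
  have r2110 : b 3 1 + b 3 1 + b 2 2 = 0 := by
    have h := R 2 (by norm_num) 1 (by norm_num) 1 (by norm_num) 0 (by norm_num)
    simp only [Nat.reduceAdd] at h
    linear_combination (norm := module) h
  have r2200 : b 4 0 + b 2 2 + b 2 2 = 0 := by
    have h := R 2 (by norm_num) 2 (by norm_num) 0 (by norm_num) 0 (by norm_num)
    simp only [Nat.reduceAdd] at h
    linear_combination (norm := module) h
  have b40 : b 4 0 = 0 := s3 _ (by linear_combination (norm := module) (-2 : k) • r1111 + (3 : k) • r2200)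
  have b31 : b 3 1 = 0 := s2 _ (s3 _ (by linear_combination (norm := module) (-1 : k) • r1111 + (3 : k) • r2110))
  have b22 : b 2 2 = 0 := s3 _ (by linear_combination (norm := module) (1 : k) • r1111)
  have r2111 : b 3 2 + b 3 2 + b 3 2 = 0 := by
    have h := R 2 (by norm_num) 1 (by norm_num) 1 (by norm_num) 1 (by norm_num)
    simp only [Nat.reduceAdd] at h
    linear_combination (norm := module) h
  have r2210 : b 4 1 + b 3 2 + b 3 2 = 0 := by
    have h := R 2 (by norm_num) 2 (by norm_num) 1 (by norm_num) 0 (by norm_num)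
    simp only [Nat.reduceAdd] at h
    linear_combination (norm := module) h - hs 2 3
  have r3200 : b 5 0 + b 3 2 + b 3 2 = 0 := by
    have h := R 3 (by norm_num) 2 (by norm_num) 0 (by norm_num) 0 (by norm_num)
    simp only [Nat.reduceAdd] at h
    linear_combination (norm := module) h
  have b50 : b 5 0 = 0 := s3 _ (by linear_combination (norm := module) (-2 : k) • r2111 + (3 : k) • r3200)
  have b41 : b 4 1 = 0 := s3 _ (by linear_combination (norm := module) (-2 : k) • r2111 + (3 : k) • r2210)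
  have b32 : b 3 2 = 0 := s3 _ (by linear_combination (norm := module) (1 : k) • r2111)
  have r2211 : b 4 2 + b 3 3 + b 3 3 = 0 := by
    have h := R 2 (by norm_num) 2 (by norm_num) 1 (by norm_num) 1 (by norm_num)
    simp only [Nat.reduceAdd] at h
    linear_combination (norm := module) h
  have r2220 : b 4 2 + b 4 2 + b 4 2 = 0 := by
    have h := R 2 (by norm_num) 2 (by norm_num) 2 (by norm_num) 0 (by norm_num)
    simp only [Nat.reduceAdd] at h
    linear_combination (norm := module) h - hs 2 4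
  have r3210 : b 5 1 + b 4 2 + b 3 3 = 0 := by
    have h := R 3 (by norm_num) 2 (by norm_num) 1 (by norm_num) 0 (by norm_num)
    simp only [Nat.reduceAdd] at h
    linear_combination (norm := module) h
  have r3300 : b 6 0 + b 3 3 + b 3 3 = 0 := by
    have h := R 3 (by norm_num) 3 (by norm_num) 0 (by norm_num) 0 (by norm_num)
    simp only [Nat.reduceAdd] at h
    linear_combination (norm := module) h
  have b60 : b 6 0 = 0 := s3 _ (by linear_combination (norm := module) (-3 : k) • r2211 + (1 : k) • r2220 + (3 : k) • r3300)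
  have b51 : b 5 1 = 0 := s2 _ (s3 _ (by linear_combination (norm := module) (-3 : k) • r2211 + (-1 : k) • r2220 + (6 : k) • r3210))
  have b42 : b 4 2 = 0 := s3 _ (by linear_combination (norm := module) (1 : k) • r2220)
  have b33 : b 3 3 = 0 := s2 _ (s3 _ (by linear_combination (norm := module) (3 : k) • r2211 + (-1 : k) • r2220))
  have r2221 : b 4 3 + b 4 3 + b 4 3 = 0 := by
    have h := R 2 (by norm_num) 2 (by norm_num) 2 (by norm_num) 1 (by norm_num)
    simp only [Nat.reduceAdd] at h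
    linear_combination (norm := module) h - hs 3 4
  have r3211 : b 5 2 + b 4 3 + b 4 3 = 0 := by
    have h := R 3 (by norm_num) 2 (by norm_num) 1 (by norm_num) 1 (by norm_num)
    simp only [Nat.reduceAdd] at h
    linear_combination (norm := module) h
  have r3310 : b 6 1 + b 4 3 + b 4 3 = 0 := by
    have h := R 3 (by norm_num) 3 (by norm_num) 1 (by norm_num) 0 (by norm_num)
    simp only [Nat.reduceAdd] at h
    linear_combination (norm := module) h - hs 3 4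
  have r4300 : b 7 0 + b 4 3 + b 4 3 = 0 := by
    have h := R 4 (by norm_num) 3 (by norm_num) 0 (by norm_num) 0 (by norm_num)
    simp only [Nat.reduceAdd] at h
    linear_combination (norm := module) h
  have b70 : b 7 0 = 0 := s3 _ (by linear_combination (norm := module) (-2 : k) • r2221 + (3 : k) • r4300)
  have b61 : b 6 1 = 0 := s3 _ (by linear_combination (norm := module) (-2 : k) • r2221 + (3 : k) • r3310)
  have b52 : b 5 2 = 0 := s3 _ (by linear_combination (norm := module) (-2 : k) • r2221 + (3 : k) • r3211)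
  have b43 : b 4 3 = 0 := s3 _ (by linear_combination (norm := module) (1 : k) • r2221)
  have r2222 : b 4 4 + b 4 4 + b 4 4 = 0 := by
    have h := R 2 (by norm_num) 2 (by norm_num) 2 (by norm_num) 2 (by norm_num)
    simp only [Nat.reduceAdd] at h
    linear_combination (norm := module) h
  have r3221 : b 5 3 + b 5 3 + b 4 4 = 0 := by
    have h := R 3 (by norm_num) 2 (by norm_num) 2 (by norm_num) 1 (by norm_num)
    simp only [Nat.reduceAdd] at h
    linear_combination (norm := module) h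
  have r3311 : b 6 2 + b 4 4 + b 4 4 = 0 := by
    have h := R 3 (by norm_num) 3 (by norm_num) 1 (by norm_num) 1 (by norm_num)
    simp only [Nat.reduceAdd] at h
    linear_combination (norm := module) h
  have r4310 : b 7 1 + b 5 3 + b 4 4 = 0 := by
    have h := R 4 (by norm_num) 3 (by norm_num) 1 (by norm_num) 0 (by norm_num)
    simp only [Nat.reduceAdd] at h
    linear_combination (norm := module) h
  have r4400 : b 8 0 + b 4 4 + b 4 4 = 0 := by
    have h := R 4 (by norm_num) 4 (by norm_num) 0 (by norm_num) 0 (by norm_num)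
    simp only [Nat.reduceAdd] at h
    linear_combination (norm := module) h
  have b80 : b 8 0 = 0 := s3 _ (by linear_combination (norm := module) (-2 : k) • r2222 + (3 : k) • r4400)
  have b71 : b 7 1 = 0 := s2 _ (s3 _ (by linear_combination (norm := module) (-1 : k) • r2222 + (-3 : k) • r3221 + (6 : k) • r4310))
  have b62 : b 6 2 = 0 := s3 _ (by linear_combination (norm := module) (-2 : k) • r2222 + (3 : k) • r3311)
  have b53 : b 5 3 = 0 := s2 _ (s3 _ (by linear_combination (norm := module) (-1 : k) • r2222 + (3 : k) • r3221))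
  have b44 : b 4 4 = 0 := s3 _ (by linear_combination (norm := module) (1 : k) • r2222)
  have key : ∀ n m, m ≤ n → n + m ≤ 8 → b n m = 0 := by
    intro n m hmn hnm
    have hm : m ≤ 4 := by omega
    have hn : n ≤ 8 := by omega
    interval_cases m <;> interval_cases n <;> first | assumption | (clear * - hnm; omega)
  intro n m hnm
  rcases le_total m n with h | h
  · exact key n m h hnm
  · rw [hs]
    exact key m n h (by omega)

theorem all_zero (h3 : (3 : k) ≠ 0) (h2 : (2 : k) ≠ 0) {b : ℕ → ℕ → E} (hs : ∀ n m, b n m = b m n)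
    (R : ∀ x ≤ 4, ∀ y ≤ 4, ∀ z ≤ 4, ∀ t ≤ 4, b (x + y) (z + t) + b (x + z) (y + t) + b (x + t) (y + z) = 0) :
    ∀ n ≤ 8, ∀ m ≤ 8, b n m = 0 := by
  intro n hn m hm
  rcases le_total (n + m) 8 with h | h
  · exact half_zero h3 h2 hs R n m h
  · have h1 := half_zero h3 h2 (b := fun n m => b (8 - n) (8 - m)) (fun n m => hs _ _) (fun x hx y hy z hz t ht => by
      have h2 := R (4 - x) (by omega) (4 - y) (by omega) (4 - z) (by omega) (4 - t) (by omega)
      rw [show 8 - (x + y) = 4 - x + (4 - y) by omega, show 8 - (z + t) = 4 - z + (4 - t) by omega,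
        show 8 - (x + z) = 4 - x + (4 - z) by omega, show 8 - (y + t) = 4 - y + (4 - t) by omega,
        show 8 - (x + t) = 4 - x + (4 - t) by omega, show 8 - (y + z) = 4 - y + (4 - z) by omega]
      exact h2) (8 - n) (8 - m) (by omega)
    rwa [show 8 - (8 - n) = n by omega, show 8 - (8 - m) = m by omega] at h1

end comb

variable {k : Type u} [Field k] [DecidableEq k] [IsAlgClosed k] {K : Type w} [Field K] [Fintype K] [DecidableEq K]
  {ι : K →+* k} {p a : ℕ} [Fact p.Prime] [CharP k p] [CharP K p]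
  {ψ : _root_.Matrix.SpecialLinearGroup (Fin 2) K →* ↥(Zgrp k)} {ρ ρ' : Representation k ↥(Zgrp k) (I27 → k)}

section four

variable {i : ℕ} {v : ℕ → I27 → k}

omit [DecidableEq k] [IsAlgClosed k] in
theorem pow_mul_inv_pow {X : k} (hX : X ≠ 0) {n s : ℕ} (hs : s ≤ n) : X ^ s * X⁻¹ ^ (n - s) = X ^ (2 * (s : ℤ) - n) := by
  rw [← zpow_natCast, ← zpow_natCast, _root_.inv_zpow', ← zpow_add₀ hX]
  congr 1
  omega

/-- the covariants of type `V_4` -/
def cov (v : ℕ → I27 → k) : ℕ → I27 → k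
  | 0 => (6 : k) • (cr (v 0) (v 2) - cr (v 1) (v 1))
  | 1 => (3 : k) • (cr (v 0) (v 3) - cr (v 1) (v 2))
  | 2 => cr (v 0) (v 4) + (2 : k) • cr (v 1) (v 3) - (3 : k) • cr (v 2) (v 2)
  | 3 => (3 : k) • (cr (v 1) (v 4) - cr (v 2) (v 3))
  | 4 => (6 : k) • (cr (v 2) (v 4) - cr (v 3) (v 3))
  | _ => 0

theorem cov_ch (f : Fra p a ψ ρ ρ') (c : Ch ι p (Rr ρ ψ) 4 i v) : Ch ι p (Rr ρ' ψ) 4 i (cov v) := by
  have w' : ∀ x y, cr (ρ (ψ w) x) (ρ (ψ w) y) = ρ' (ψ w) (cr x y) := pair_cr f.pair _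
  have u' : ∀ t x y, cr (ρ (ψ (u t)) x) (ρ (ψ (u t)) y) = ρ' (ψ (u t)) (cr x y) := fun t => pair_cr f.pair _
  obtain ⟨w0, w1, w2, w3, w4⟩ := four_w c
  have c10 := cr_comm (v 1) (v 0)
  have c20 := cr_comm (v 2) (v 0)
  have c30 := cr_comm (v 3) (v 0)
  have c40 := cr_comm (v 4) (v 0)
  have c21 := cr_comm (v 2) (v 1)
  have c31 := cr_comm (v 3) (v 1)
  have c41 := cr_comm (v 4) (v 1)
  have c32 := cr_comm (v 3) (v 2)
  have c42 := cr_comm (v 4) (v 2)
  have c43 := cr_comm (v 4) (v 3)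
  refine ⟨fun s hs => ?_, fun s hs t => ?_, fun s hs b => ?_, fun s hs => ?_⟩
  · obtain ⟨m, rfl⟩ : ∃ m, s = m + 5 := ⟨s - 5, by omega⟩
    rfl
  · obtain ⟨u0, u1, u2, u3, u4⟩ := four_u c t
    rw [Rr_apply]
    interval_cases s
    · simp only [cov, map_smul, map_sub, map_add, ← u', u0, u1, u2, u3, u4, cr_add_left, cr_add_right, cr_smul_left,
        cr_smul_right, c10, c20, c30, c40, c21, c31, c41, c32, c42, c43, Finset.sum_range_succ, Finset.sum_range_zero,
        Nat.choose, Nat.reduceAdd, Nat.reduceSub, Nat.cast_one, Nat.cast_ofNat]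
      module
    · simp only [cov, map_smul, map_sub, map_add, ← u', u0, u1, u2, u3, u4, cr_add_left, cr_add_right, cr_smul_left,
        cr_smul_right, c10, c20, c30, c40, c21, c31, c41, c32, c42, c43, Finset.sum_range_succ, Finset.sum_range_zero,
        Nat.choose, Nat.reduceAdd, Nat.reduceSub, Nat.cast_one, Nat.cast_ofNat]
      module
    · simp only [cov, map_smul, map_sub, map_add, ← u', u0, u1, u2, u3, u4, cr_add_left, cr_add_right, cr_smul_left,
        cr_smul_right, c10, c20, c30, c40, c21, c31, c41, c32, c42, c43, Finset.sum_range_succ, Finset.sum_range_zero,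
        Nat.choose, Nat.reduceAdd, Nat.reduceSub, Nat.cast_one, Nat.cast_ofNat]
      module
    · simp only [cov, map_smul, map_sub, map_add, ← u', u0, u1, u2, u3, u4, cr_add_left, cr_add_right, cr_smul_left,
        cr_smul_right, c10, c20, c30, c40, c21, c31, c41, c32, c42, c43, Finset.sum_range_succ, Finset.sum_range_zero,
        Nat.choose, Nat.reduceAdd, Nat.reduceSub, Nat.cast_one, Nat.cast_ofNat]
      module
    · simp only [cov, map_smul, map_sub, map_add, ← u', u0, u1, u2, u3, u4, cr_add_left, cr_add_right, cr_smul_left,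
        cr_smul_right, c10, c20, c30, c40, c21, c31, c41, c32, c42, c43, Finset.sum_range_succ, Finset.sum_range_zero,
        Nat.choose, Nat.reduceAdd, Nat.reduceSub, Nat.cast_one, Nat.cast_ofNat]
      module
  · have hX : (ι (b : K) ^ p ^ i) ≠ 0 := pow_ne_zero _ ((map_ne_zero ι).2 b.ne_zero)
    have e := fun n s hs => pow_mul_inv_pow hX (n := n) (s := s) hs
    have hcr : ∀ x ≤ 4, ∀ y ≤ 4, x + y = s + 2 → ρ' (ψ (h b)) (cr (v x) (v y)) =
        ((ι (b : K) ^ p ^ i) ^ s * ((ι (b : K) ^ p ^ i)⁻¹) ^ (4 - s)) • cr (v x) (v y) := by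
      intro x hx y hy hxy
      have h1 := c.h x hx b
      have h2 := c.h y hy b
      rw [Rr_apply] at h1 h2
      rw [← pair_cr f.pair, h1, h2, cr_smul_left, cr_smul_right, smul_smul, e _ _ hx, e _ _ hy, e _ _ hs,
        ← zpow_add₀ hX]
      congr 2
      push_cast
      omega
    rw [Rr_apply]
    interval_cases s
    · simp only [cov, map_smul, map_sub, map_add, hcr 0 (by norm_num) 2 (by norm_num) rfl,
        hcr 1 (by norm_num) 1 (by norm_num) rfl]
      module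
    · simp only [cov, map_smul, map_sub, map_add, hcr 0 (by norm_num) 3 (by norm_num) rfl,
        hcr 1 (by norm_num) 2 (by norm_num) rfl]
      module
    · simp only [cov, map_smul, map_sub, map_add, hcr 0 (by norm_num) 4 (by norm_num) rfl,
        hcr 1 (by norm_num) 3 (by norm_num) rfl, hcr 2 (by norm_num) 2 (by norm_num) rfl]
      module
    · simp only [cov, map_smul, map_sub, map_add, hcr 1 (by norm_num) 4 (by norm_num) rfl,
        hcr 2 (by norm_num) 3 (by norm_num) rfl]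
      module
    · simp only [cov, map_smul, map_sub, map_add, hcr 2 (by norm_num) 4 (by norm_num) rfl,
        hcr 3 (by norm_num) 3 (by norm_num) rfl]
      module
  · rw [Rr_apply]
    have w1' : ρ (ψ w) (v 1) = (-1 : k) • v 3 := by rw [w1, neg_one_smul]
    have w3' : ρ (ψ w) (v 3) = (-1 : k) • v 1 := by rw [w3, neg_one_smul]
    interval_cases s <;>
    · simp only [cov, map_smul, map_sub, map_add, ← w', w0, w1', w2, w3', w4, cr_smul_left, cr_smul_right, c10, c20, c30,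
        c40, c21, c31, c41, c32, c42, c43]
      module

theorem bs_of_ch [ExpChar k p] {σ : Representation k (_root_.Matrix.SpecialLinearGroup (Fin 2) K) (I27 → k)} {n : ℕ}
    (c : Ch ι p σ n i v) : Gr.Bs ((iterateFrobenius k p i).comp ι) σ n v where
  zero := c.zero
  u s hs t := by
    rw [c.u s hs t]
    rfl
  h s hs a := by
    rw [c.h s hs a]
    rfl
  w := c.w

/-- **the covariants do not vanish** -/
theorem cov_ne (f : Fra p a ψ ρ ρ') (h5 : 5 ≤ p) (h7 : p ≠ 7) (h9 : 9 ≤ Fintype.card K) (nts : Nts ψ ρ) (nts' : Nts ψ ρ')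
    (c : Ch ι p (Rr ρ ψ) 4 i v) (hv : v 0 ≠ 0) : ∃ s, cov v s ≠ 0 := by
  by_contra hcon
  push Not at hcon
  apply hv
  have hp : p.Prime := Fact.out
  have hexp : ExpChar k p := ExpChar.prime hp
  have hq : ∀ j : ℕ, 0 < j → j ≤ 4 → (j : k) ≠ 0 := by
    intro j hj hj' h0
    have := Nat.le_of_dvd hj ((CharP.cast_eq_zero_iff k p j).1 h0)
    omega
  have h2 : (2 : k) ≠ 0 := by exact_mod_cast hq 2 (by norm_num) (by norm_num)
  have h3 : (3 : k) ≠ 0 := by exact_mod_cast hq 3 (by norm_num) (by norm_num)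
  have h7' : (7 : k) ≠ 0 := by
    intro h0
    have h1 : ((7 : ℕ) : k) = 0 := by exact_mod_cast h0
    rw [CharP.cast_eq_zero_iff k p] at h1
    exact h7 ((Nat.prime_dvd_prime_iff_eq hp (by norm_num)).1 h1)
  have can : ∀ (e : k) (x : I27 → k), e ≠ 0 → e • x = 0 → x = 0 := fun e x he hx => (smul_eq_zero.1 hx).resolve_left he
  have s6 : (6 : k) ≠ 0 := by
    rw [show (6 : k) = 2 * 3 by norm_num]
    exact mul_ne_zero h2 h3
  have w' : ∀ x y, cr (ρ (ψ w) x) (ρ (ψ w) y) = ρ' (ψ w) (cr x y) := pair_cr f.pair _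
  have u' : ∀ t x y, cr (ρ (ψ (u t)) x) (ρ (ψ (u t)) y) = ρ' (ψ (u t)) (cr x y) := fun t => pair_cr f.pair _
  obtain ⟨w0, w1, w2, w3, w4⟩ := four_w c
  have c10 := cr_comm (v 1) (v 0)
  have c20 := cr_comm (v 2) (v 0)
  have c30 := cr_comm (v 3) (v 0)
  have c40 := cr_comm (v 4) (v 0)
  have c21 := cr_comm (v 2) (v 1)
  have c31 := cr_comm (v 3) (v 1)
  have c41 := cr_comm (v 4) (v 1)
  have c32 := cr_comm (v 3) (v 2)
  have c42 := cr_comm (v 4) (v 2)
  have c43 := cr_comm (v 4) (v 3)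
  have k02 : cr (v 0) (v 2) = cr (v 1) (v 1) := sub_eq_zero.1 (can _ _ s6 (hcon 0))
  have k03 : cr (v 0) (v 3) = cr (v 1) (v 2) := sub_eq_zero.1 (can _ _ h3 (hcon 1))
  have k14 : cr (v 1) (v 4) = cr (v 2) (v 3) := sub_eq_zero.1 (can _ _ h3 (hcon 3))
  have k24 : cr (v 2) (v 4) = cr (v 3) (v 3) := sub_eq_zero.1 (can _ _ s6 (hcon 4))
  have e2 : cr (v 0) (v 4) + (2 : k) • cr (v 1) (v 3) - (3 : k) • cr (v 2) (v 2) = 0 := hcon 2
  -- the invariant
  have efix : cr (v 0) (v 4) - (4 : k) • cr (v 1) (v 3) + (3 : k) • cr (v 2) (v 2) = 0 := by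
    refine fix_zero f.swap (fun t => ?_) (fun b => ?_) ?_
    · obtain ⟨u0, u1, u2, u3, u4⟩ := four_u c t
      simp only [map_smul, map_sub, map_add, ← u', u0, u1, u2, u3, u4, cr_add_left, cr_add_right, cr_smul_left,
        cr_smul_right, c10, c20, c30, c40, c21, c31, c41, c32, c42, c43]
      module
    · have hX : (ι (b : K) ^ p ^ i) ≠ 0 := pow_ne_zero _ ((map_ne_zero ι).2 b.ne_zero)
      have hcr : ∀ x ≤ 4, ∀ y ≤ 4, x + y = 4 → ρ' (ψ (h b)) (cr (v x) (v y)) = cr (v x) (v y) := by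
        intro x hx y hy hxy
        have h1 := c.h x hx b
        have h2 := c.h y hy b
        rw [Rr_apply] at h1 h2
        rw [← pair_cr f.pair, h1, h2, cr_smul_left, cr_smul_right, smul_smul, pow_mul_inv_pow hX hx,
          pow_mul_inv_pow hX hy, ← zpow_add₀ hX]
        have : (2 * (x : ℤ) - (4 : ℕ) + (2 * (y : ℤ) - (4 : ℕ))) = 0 := by
          push_cast
          omega
        rw [this, zpow_zero, one_smul]
      simp only [map_smul, map_sub, map_add, hcr 0 (by norm_num) 4 (by norm_num) rfl,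
        hcr 1 (by norm_num) 3 (by norm_num) rfl, hcr 2 (by norm_num) 2 (by norm_num) rfl]
    · have w1' : ρ (ψ w) (v 1) = (-1 : k) • v 3 := by rw [w1, neg_one_smul]
      have w3' : ρ (ψ w) (v 3) = (-1 : k) • v 1 := by rw [w3, neg_one_smul]
      simp only [map_smul, map_sub, map_add, ← w', w0, w1', w2, w3', w4, cr_smul_left, cr_smul_right, c10, c20, c30,
        c40, c21, c31, c41, c32, c42, c43]
      module
  have k13 : cr (v 1) (v 3) = cr (v 2) (v 2) := by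
    rw [← sub_eq_zero]
    refine can _ _ s6 ?_
    linear_combination (norm := module) e2 - efix
  have k04 : cr (v 0) (v 4) = cr (v 2) (v 2) := by
    rw [k13] at e2
    linear_combination (norm := module) e2
  -- the squares
  obtain ⟨z, hz⟩ : ∃ z : ℕ → I27 → k, z = fun n => if n ≤ 4 then cr (v 0) (v n) else cr (v (n - 4)) (v 4) := ⟨_, rfl⟩
  have hcz : ∀ x ≤ 4, ∀ y ≤ 4, cr (v x) (v y) = z (x + y) := by
    intro x hx y hy
    rw [hz]
    interval_cases x <;> interval_cases y <;>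
      simp only [Nat.reduceAdd, Nat.reduceSub, Nat.reduceLeDiff, if_true, if_false, c10, c20, c30, c40, c21, c31, c41, c32,
        c42, c43, k02, k03, k14, k24, k13, k04]
  -- the trilinear form
  have hT : ∀ g x y z, Gr.T3 k (Rr ρ ψ g x) (Rr ρ ψ g y) (Rr ρ ψ g z) = Gr.T3 k x y z := fun g x y z => tri_inv f g x y z
  have B := bs_of_ch c
  have gr : ∀ x y l, x + y + l ≠ 6 → tf (cr (v x) (v y)) (v l) = 0 := fun x y l hne =>
    Gr.tri_grade (Gr.T3 k) hT B B B (fun j hj hj' => hq j hj hj') (by omega) x y l (by omega)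
  have hsym' : ∀ x y z : I27 → k, tf (cr x y) z = tf (cr x z) y := fun x y z => by rw [tf_cr, cr_comm y z, ← tf_cr]
  have hsw : ∀ x ≤ 4, ∀ y ≤ 4, ∀ l ≤ 4, tf (z (x + y)) (v l) = tf (z (x + l)) (v y) := fun x hx y hy l hl => by
    rw [← hcz x hx y hy, ← hcz x hx l hl, hsym']
  have t24 : tf (z 2) (v 4) = tf (z 4) (v 2) := hsw 0 (by norm_num) 2 (by norm_num) 4 (by norm_num)
  have t33 : tf (z 3) (v 3) = tf (z 4) (v 2) := hsw 1 (by norm_num) 2 (by norm_num) 3 (by norm_num)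
  have t51 : tf (z 5) (v 1) = tf (z 4) (v 2) := (hsw 2 (by norm_num) 3 (by norm_num) 1 (by norm_num)).trans t33
  have t60 : tf (z 6) (v 0) = tf (z 4) (v 2) := (hsw 2 (by norm_num) 4 (by norm_num) 0 (by norm_num)).trans t24
  have t42 : tf (z 4) (v 2) = 0 := by
    have h := Gr.tri_der (Gr.T3 k) hT B B B (N := 6) (fun s s' s'' hss => gr s s' s'' (by omega)) (s := 4) (s' := 1)
      (s'' := 0) (by norm_num) (by norm_num) (by norm_num) (by norm_num)
    simp only [Gr.T3_apply, Nat.reduceAdd, Nat.reduceSub, Nat.cast_zero, zero_mul, zero_add, Nat.cast_ofNat] at h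
    rw [hcz 4 (by norm_num) 2 (by norm_num), hcz 4 (by norm_num) 1 (by norm_num)] at h
    simp only [Nat.reduceAdd, t60, t51] at h
    have h' : (7 : k) * tf (z 4) (v 2) = 0 := by linear_combination h
    exact (mul_eq_zero.1 h').resolve_left h7'
  have T0 : ∀ x ≤ 4, ∀ y ≤ 4, ∀ l ≤ 4, tf (cr (v x) (v y)) (v l) = 0 := by
    intro x hx y hy l hl
    by_cases hne : x + y + l = 6
    · rw [hcz x hx y hy]
      obtain ⟨n, hn⟩ : ∃ n, n = x + y := ⟨_, rfl⟩
      rw [← hn]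
      have hn6 : n = 6 - l := by omega
      rw [hn6]
      interval_cases l <;> simp only [Nat.reduceSub, Nat.sub_zero, t24, t33, t51, t60, t42]
    · exact gr x y l hne
  have L : ∀ x ≤ 4, ∀ y ≤ 4, ∀ l ≤ 4, ∀ t ≤ 4, cr (z (x + y)) (z (l + t)) + cr (z (x + l)) (z (y + t)) +
      cr (z (x + t)) (z (y + l)) = 0 := by
    intro x hx y hy l hl t ht
    rw [← hcz x hx y hy, ← hcz l hl t ht, ← hcz x hx l hl, ← hcz y hy t ht, ← hcz x hx t ht, ← hcz y hy l hl, cr4,
      T0 x hx y hy l hl, T0 x hx y hy t ht, T0 x hx l hl t ht, T0 y hy l hl t ht]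
    simp
  have Z := all_zero h3 h2 (b := fun n m => cr (z n) (z m)) (fun n m => cr_comm _ _) L
  refine sq_bot' (T := {y | ∃ n ≤ 8, y = z n}) f h2 nts nts' c.stab ?_ ?_ (v 0) ⟨0, rfl⟩
  · have hz0 : ∀ s, 4 < s → v s = 0 := c.zero
    rintro _ ⟨x, rfl⟩ _ ⟨y, rfl⟩
    rcases lt_or_ge 4 x with hx | hx
    · rw [hz0 x hx, Cfsg.Agent.R2.H22.Loc.cr_zero_left]
      exact Submodule.zero_mem _
    rcases lt_or_ge 4 y with hy | hy
    · rw [hz0 y hy, Cfsg.Agent.R2.H22.Loc.cr_zero_right]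
      exact Submodule.zero_mem _
    rw [hcz x hx y hy]
    exact Submodule.subset_span ⟨x + y, by omega, rfl⟩
  · rintro _ ⟨n, hn, rfl⟩ _ ⟨m, hm, rfl⟩
    exact Z n hn m hm

/-- **`V_{4 p^i}` in both socles** -/
theorem inSoc_four (f : Fra p a ψ ρ ρ') (h5 : 5 ≤ p) (h7 : p ≠ 7) (h9 : 9 ≤ Fintype.card K) (nts : Nts ψ ρ)
    (nts' : Nts ψ ρ') (hi : i < a) (h : InSoc ι p (Rr ρ ψ) (4 * p ^ i)) : InSoc ι p (Rr ρ' ψ) (4 * p ^ i) := by
  have hp : p.Prime := Fact.out
  obtain ⟨v, c, hv⟩ := exists_ch (by omega) h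
  refine (cov_ch f c).inSoc (by omega) ?_ (cov_ne f h5 h7 h9 nts nts' c (hv 0 (by norm_num)))
  rw [f.card]
  have h1 : p ^ (i + 1) ≤ p ^ a := Nat.pow_le_pow_right hp.pos hi
  have h2 : 0 < p ^ i := Nat.pow_pos hp.pos
  have h3 : 5 * p ^ i ≤ p ^ (i + 1) := by
    rw [pow_succ, mul_comm (p ^ i)]
    exact Nat.mul_le_mul_right _ h5
  omega

end four

end Cfsg.Agent.R2.H9.E6.Nsp
end

-- part: R2/H9/E6/EU
section
/-!
# `V_k = L(12)^[i] + L(8)^[j] + L(4)^[l]`: the split case (helper9)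

`boxE_split` : the configuration is impossible if `V_k`, `V'_k` are direct sums of submodules of type
`12 p^{t 0}`, `8 p^{t 1}`, `4 p^{t 2}`.
-/

set_option autoImplicit false
set_option linter.unusedSectionVars false

namespace Cfsg.Agent.R2.H9.E6.Gr

open Cfsg Cfsg.Lie Module Matrix
open Cfsg.Agent.H943.SL2Rel Cfsg.Agent.H943.SL2Mod Cfsg.Agent.H943.RepAdd Cfsg.Agent.R2.H28.SL2
open Cfsg.Agent.ChevalleyStructure Cfsg.Agent.ChevalleyStructure.E6Form.Cubic
  Cfsg.Agent.ChevalleyStructure.E6Form.Table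
open Cfsg.Agent.ChevalleyStructure.E6Min.Basic (Zgrp)
open Cfsg.Agent.H952.F4 (sh cr tf)
open Cfsg.Agent.H952.F4.Jord
open Cfsg.Agent.H163.E6 (V V')
open Cfsg.Agent.H163.E6.Act
open Cfsg.Agent.H65.E6Emb
open Cfsg.Agent.R2.GEO (crB crB_apply tfB tfB_apply gzHom gzHom_apply kr mem_kr finrank_kr_le)
open Cfsg.Agent.R2.H9.E6 Cfsg.Agent.R2.H9.E6.Kb

universe u v w

section gen

variable {k : Type u} [Field k] {E : Type*} [AddCommGroup E] [Module k E]

theorem tri_span (T : E →ₗ[k] E →ₗ[k] E →ₗ[k] k) {S₁ S₂ S₃ : Set E} (h : ∀ x ∈ S₁, ∀ y ∈ S₂, ∀ z ∈ S₃, T x y z = 0) {x y z : E}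
    (hx : x ∈ Submodule.span k S₁) (hy : y ∈ Submodule.span k S₂) (hz : z ∈ Submodule.span k S₃) : T x y z = 0 := by
  have h1 : ∀ x ∈ S₁, ∀ y ∈ S₂, T x y z = 0 := by
    intro x hx y hy
    have h2 : Submodule.span k S₃ ≤ LinearMap.ker (T x y) := by
      rw [Submodule.span_le]
      exact fun z hz => h x hx y hy z hz
    exact h2 hz
  have h2 : ∀ x ∈ S₁, T x y z = 0 := by
    intro x hx
    have h2 : Submodule.span k S₂ ≤ LinearMap.ker ((T x).flip z) := by
      rw [Submodule.span_le]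
      exact fun y hy => h1 x hx y hy
    exact h2 hy
  have h3 : Submodule.span k S₁ ≤ LinearMap.ker ((T.flip y).flip z) := by
    rw [Submodule.span_le]
    exact fun x hx => h2 x hx
  exact h3 hx

end gen

variable {k : Type u} [Field k] {K : Type w} [Field K] [Fintype K] [DecidableEq K] (ι : K →+* k)
variable {p a : ℕ} [Fact p.Prime] [CharP k p] [CharP K p]

/-- `BasS` gives `Bs` for the twisted embedding -/
theorem bs_of_basS [ExpChar k p] {E : Type*} [AddCommGroup E] [Module k E] {ρ : Representation k (_root_.Matrix.SpecialLinearGroup (Fin 2) K) E}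
    {n i : ℕ} {v : ℕ → E} (h : BasS ι p ρ n i v) : Bs ((iterateFrobenius k p i).comp ι) ρ n v where
  zero := h.zero
  u s hs t := by
    rw [h.u s hs t]
    rfl
  h s hs a := by
    rw [h.h s hs a]
    rfl
  w := h.w

/-- bases of submodules -/
theorem exists_bs [DecidableEq k] [ExpChar k p] {E : Type*} [AddCommGroup E] [Module k E]
    {ρ : Representation k (_root_.Matrix.SpecialLinearGroup (Fin 2) K) E} {W : Submodule k E} {hW : ∀ g, ∀ x ∈ W, ρ g x ∈ W}
    {n i : ℕ} (hn : n < p) (h : IsV ι p (subRep ρ W hW) (n * p ^ i)) :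
    ∃ v : ℕ → E, Bs ((iterateFrobenius k p i).comp ι) ρ n v ∧ W = Submodule.span k (Set.range fun s : Fin (n + 1) => v s) ∧
      Module.finrank k W = n + 1 ∧ LinearIndependent k fun s : Fin (n + 1) => v s := by
  obtain ⟨v, hv⟩ := h.basS ι p hn
  have h1 := bs_of_basS ι hv
  refine ⟨fun s => (v s : E), ⟨fun s hs => ?_, fun s hs t => ?_, fun s hs a => ?_, fun s hs => ?_⟩, ?_, ?_,
    hv.li.map' W.subtype (LinearMap.ker_eq_bot.2 W.injective_subtype)⟩
  · rw [h1.zero s hs]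
    rfl
  · have h2 := congrArg Subtype.val (h1.u s hs t)
    rw [Submodule.coe_sum] at h2
    exact h2
  · exact congrArg Subtype.val (h1.h s hs a)
  · exact congrArg Subtype.val (h1.w s hs)
  · have h2 : Submodule.span k (Set.range fun s : Fin (n + 1) => (v s : E)) =
        (Submodule.span k (Set.range fun s : Fin (n + 1) => v s)).map W.subtype := by
      rw [Submodule.map_span, ← Set.range_comp]
      rfl
    rw [h2, top_le_iff.1 hv.sp, Submodule.map_top, Submodule.range_subtype]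
  · rw [Module.finrank_eq_card_basis (Module.Basis.mk hv.li hv.sp), Fintype.card_fin]

theorem choose_pow_eq {n i m : ℕ} (hn : n < p) (h : ((n * p ^ i).choose m : k) ≠ 0) (hm : m ≤ n * p ^ i) :
    ∃ s ≤ n, m = s * p ^ i := by
  classical
  exact (mem_Bf_single (k := k) p hn i).1 (mem_Bf.2 ⟨hm, h⟩)

theorem pow_ne_pow {s s' i j : ℕ} (hs : s < p) (hs' : s' < p) (hij : i ≠ j) (h : s * p ^ i = s' * p ^ j) : s = 0 := by
  have hp : p.Prime := Fact.out
  have key : ∀ {s s' i j : ℕ}, s < p → s' < p → i < j → s * p ^ i = s' * p ^ j → s = 0 := by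
    intro s s' i j hs hs' hij h
    obtain ⟨d, rfl⟩ : ∃ d, j = i + (d + 1) := ⟨j - i - 1, by omega⟩
    have h1 : s = s' * p ^ (d + 1) := by
      apply Nat.eq_of_mul_eq_mul_right (Nat.pow_pos hp.pos : 0 < p ^ i)
      rw [h, pow_add]
      ring
    rcases Nat.eq_zero_or_pos s' with h2 | h2
    · rw [h1, h2, zero_mul]
    · exfalso
      have h3 : p ≤ s' * p ^ (d + 1) := by
        calc p = 1 * p ^ 1 := by rw [pow_one, one_mul]
          _ ≤ s' * p ^ (d + 1) := Nat.mul_le_mul h2 (Nat.pow_le_pow_right hp.pos (by omega))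
      omega
  rcases Nat.lt_or_gt_of_ne hij with h1 | h1
  · exact key hs hs' h1 h
  · have h2 := key hs' hs h1 h.symm
    rw [h2, zero_mul, Nat.mul_eq_zero] at h
    exact h.resolve_right (Nat.pow_pos hp.pos).ne'

/-- the trilinear form vanishes if the third twist is different from the first two -/
theorem tri_twist [DecidableEq k] (hK : Fintype.card K = p ^ a) {E : Type*} [AddCommGroup E] [Module k E]
    {ρ : Representation k (_root_.Matrix.SpecialLinearGroup (Fin 2) K) E}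
    (T : E →ₗ[k] E →ₗ[k] E →ₗ[k] k) (hT : ∀ g x y z, T (ρ g x) (ρ g y) (ρ g z) = T x y z)
    {W₁ W₂ W₃ : Submodule k E} {h₁ : ∀ g, ∀ x ∈ W₁, ρ g x ∈ W₁} {h₂ : ∀ g, ∀ x ∈ W₂, ρ g x ∈ W₂}
    {h₃ : ∀ g, ∀ x ∈ W₃, ρ g x ∈ W₃} {n₁ n₂ n₃ i₁ i₂ i₃ : ℕ} (hn₁ : n₁ < p) (hn₂ : n₂ < p) (hn₃ : n₃ < p) (h0 : n₃ ≠ 0)
    (v₁ : IsV ι p (subRep ρ W₁ h₁) (n₁ * p ^ i₁)) (v₂ : IsV ι p (subRep ρ W₂ h₂) (n₂ * p ^ i₂))
    (v₃ : IsV ι p (subRep ρ W₃ h₃) (n₃ * p ^ i₃)) (h13 : i₃ ≠ i₁) (h23 : i₃ ≠ i₂) {x y z : E} (hx : x ∈ W₁) (hy : y ∈ W₂)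
    (hz : z ∈ W₃) : T x y z = 0 := by
  have hp : p.Prime := Fact.out
  have hlt : ∀ {W : Submodule k E} {hW : ∀ g, ∀ x ∈ W, ρ g x ∈ W} {b : ℕ}, IsV ι p (subRep ρ W hW) b → b < Fintype.card K := by
    intro W hW b h
    have h1 := h.choose
    have h2 := Fintype.one_lt_card (α := K)
    omega
  obtain ⟨c₁, P₁, s₁, -⟩ := Tri.exists_pp_sub ι p v₁
  obtain ⟨c₂, P₂, s₂, -⟩ := Tri.exists_pp_sub ι p v₂
  obtain ⟨c₃, P₃, s₃, -⟩ := Tri.exists_pp_sub ι p v₃
  have h1 := Tri.tri_zero T hT P₁ P₂ P₃ (hlt v₁) (hlt v₂) (hlt v₃) (fun n hn c1 c2 hle c3 _ => by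
    obtain ⟨s, hs, e⟩ := choose_pow_eq hn₃ c1 hn
    have hn2 : n ≤ n₂ * p ^ i₂ := by
      by_contra hcon
      exact c2 (by rw [Nat.choose_eq_zero_of_lt (by omega), Nat.cast_zero])
    obtain ⟨s', hs', e'⟩ := choose_pow_eq hn₂ c2 hn2
    have hs0 := pow_ne_pow (p := p) (s := s) (s' := s') (by omega) (by omega) h23 (by rw [← e, ← e'])
    rw [hs0, zero_mul] at e
    rw [e, Nat.sub_zero] at c3 hle
    obtain ⟨s'', hs'', e''⟩ := choose_pow_eq hn₁ c3 hle
    exact h0 (pow_ne_pow (p := p) hn₃ (by omega) h13 e''))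
  rw [← s₁] at hx
  rw [← s₂] at hy
  rw [← s₃] at hz
  refine tri_span T ?_ hx hy hz
  rintro _ ⟨m, rfl⟩ _ ⟨m', rfl⟩ _ ⟨m'', rfl⟩
  exact h1 m m' m''

section ne

variable [DecidableEq k] [ExpChar k p] {R : _root_.Matrix.SpecialLinearGroup (Fin 2) K →* ↥(Zgrp k)} {t : Fin 3 → ℕ}
  {X : Fin 3 → Submodule k (I27 → k)} {hX : ∀ i g, ∀ x ∈ X i, (V k).comp R g x ∈ X i}

theorem nn_lt (hp13 : 13 ≤ p) (i : Fin 3) : nn i < p := by
  have := nn_le i
  omega

/-- unequal twists -/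
theorem false_of_ne (hK : Fintype.card K = p ^ a) (hp13 : 13 ≤ p) (ht : ∀ i, t i < a)
    (hv : ∀ i, IsV ι p (subRep ((V k).comp R) (X i) (hX i)) (nn i * p ^ t i)) (htop : ⨆ i, X i = ⊤) {l : Fin 3}
    (hl : ∀ i, i ≠ l → t i ≠ t l) : False := by
  have hp : p.Prime := Fact.out
  have hnn : ∀ i : Fin 3, nn i ≠ 0 := by decide
  have htri : ∀ {i : Fin 3}, i ≠ l → ∀ {y x z : I27 → k}, y ∈ X l → x ∈ X i → T3 k y x z = 0 := by
    intro i hi y x z hy hx
    have h1 : (⊤ : Submodule k (I27 → k)) ≤ LinearMap.ker (T3 k y x) := by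
      rw [← htop, iSup_le_iff]
      intro j z hz
      rw [LinearMap.mem_ker]
      by_cases hj : j = l
      · subst hj
        rw [T3_23]
        exact tri_twist ι hK (T3 k) (T3_inv R) (nn_lt hp13 j) (nn_lt hp13 j) (nn_lt hp13 i) (hnn i) (hv j) (hv j) (hv i) (hl i hi) (hl i hi)
          hy hz hx
      · rw [T3_12, T3_23]
        exact tri_twist ι hK (T3 k) (T3_inv R) (nn_lt hp13 i) (nn_lt hp13 j) (nn_lt hp13 l) (hnn l) (hv i) (hv j) (hv l)
          (hl i hi).symm (hl j hj).symm hx hz hy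
    exact h1 Submodule.mem_top
  have hkr : ∀ {i : Fin 3}, i ≠ l → ∀ {y : I27 → k}, y ∈ X l → X i ≤ kr y := by
    intro i hi y hy x hx
    rw [mem_kr]
    refine tf_nondeg fun z => ?_
    rw [← T3_apply]
    exact htri hi hy hx
  obtain ⟨v, B, hsp, hfr, hli⟩ := exists_bs ι (nn_lt hp13 l) (hv l)
  have hy0 : v (nn l) ≠ 0 := hli.ne_zero (Fin.last (nn l))
  have hmem : ∀ s, v s ∈ X l := by
    intro s
    by_cases hs : s ≤ nn l
    · rw [hsp]
      exact Submodule.subset_span ⟨⟨s, by omega⟩, rfl⟩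
    · rw [B.zero s (by omega)]
      exact Submodule.zero_mem _
  have h17 := finrank_kr_le hy0
  have htop2 : finrank k (⊤ : Submodule k (I27 → k)) = 27 := by
    rw [finrank_top, finrank_fintype_fun_eq_card]
    rfl
  by_cases hl0 : l = 0
  · subst hl0
    have ha2 : 2 ≤ a := by
      have h0 := hl 1 (by decide)
      have h1 := ht 0
      have h2 := ht 1
      omega
    have hq : 169 ≤ Fintype.card K := by
      rw [hK]
      calc 169 = 13 ^ 2 := by norm_num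
        _ ≤ p ^ 2 := Nat.pow_le_pow_left hp13 2
        _ ≤ p ^ a := Nat.pow_le_pow_right hp.pos ha2
    have h7 : ∀ s, 7 ≤ s → v s ∈ kr (v (nn 0)) := by
      intro s hs
      rw [mem_kr]
      refine tf_nondeg fun z => ?_
      rw [← T3_apply]
      have h1 : (⊤ : Submodule k (I27 → k)) ≤ LinearMap.ker (T3 k (v (nn 0)) (v s)) := by
        rw [← htop, iSup_le_iff]
        intro j z hz
        rw [LinearMap.mem_ker]
        by_cases hj : j = 0
        · subst hj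
          rw [hsp] at hz
          have h2 : Submodule.span k (Set.range fun s : Fin (nn 0 + 1) => v s) ≤ LinearMap.ker (T3 k (v (nn 0)) (v s)) := by
            rw [Submodule.span_le]
            rintro _ ⟨s', rfl⟩
            by_contra hcon
            have h3 := tri_torus (T3 k) (T3_inv R) B B B (s := nn 0) (s' := s) (s'' := s') hcon
            have h4 : nn 0 = 12 := rfl
            have h5 := s'.2
            by_cases hs12 : s ≤ 12
            · have h6 : (2 * ((nn 0 : ℕ) + (s : ℤ) + ((s' : ℕ) : ℤ)) - ((nn 0 : ℕ) + (nn 0 : ℕ) + (nn 0 : ℕ)) : ℤ) = 0 := by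
                apply Int.eq_zero_of_abs_lt_dvd h3
                rw [abs_lt]
                constructor <;> omega
              omega
            · apply hcon
              show T3 k (v (nn 0)) (v s) (v s') = 0
              rw [B.zero s (by omega), map_zero, LinearMap.zero_apply]
          exact h2 hz
        · rw [T3_23]
          exact htri hj (hmem _) hz
      exact h1 Submodule.mem_top
    have hS : kr (v (nn 0)) ⊔ Submodule.span k (Set.range fun s : Fin 7 => v s) = ⊤ := by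
      rw [eq_top_iff, ← htop, iSup_le_iff]
      intro i
      by_cases hi : i = 0
      · subst hi
        rw [hsp, Submodule.span_le]
        rintro _ ⟨s, rfl⟩
        rcases Nat.lt_or_ge (s : ℕ) 7 with h | h
        · exact Submodule.mem_sup_right (Submodule.subset_span ⟨⟨s, h⟩, rfl⟩)
        · exact Submodule.mem_sup_left (h7 s h)
      · exact (hkr hi (hmem _)).trans le_sup_left
    have h1 := Submodule.finrank_add_le_finrank_add_finrank (kr (v (nn 0))) (Submodule.span k (Set.range fun s : Fin 7 => v s))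
    have h2 := finrank_range_le_card (R := k) (fun s : Fin 7 => v s)
    rw [hS, htop2] at h1
    rw [Fintype.card_fin] at h2
    have h3 : finrank k (Submodule.span k (Set.range fun s : Fin 7 => v s)) ≤ 7 := h2
    omega
  · have hS : kr (v (nn l)) ⊔ X l = ⊤ := by
      rw [eq_top_iff, ← htop, iSup_le_iff]
      intro i
      by_cases hi : i = l
      · rw [hi]
        exact le_sup_right
      · exact (hkr hi (hmem _)).trans le_sup_left
    have h1 := Submodule.finrank_add_le_finrank_add_finrank (kr (v (nn l))) (X l)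
    rw [hS, htop2, hfr] at h1
    have h3 : ∀ l : Fin 3, l ≠ 0 → nn l ≤ 8 := by decide
    have h4 := h3 l hl0
    omega

end ne

section split

variable [IsAlgClosed k] {F : Type v} [Field F] [Fintype F] {f0 : F →+* k}
variable {b : ℕ} {Γ M : Subgroup ↥(Zgrp F)} {ψ : ProjectiveSpecialLinearGroup (Fin 2) K →* ↥(Zgrp F)}

/-- **the split case** -/
theorem boxE_split [DecidableEq k] (hC : Cfg p a b Γ M ψ) (hp13 : 13 ≤ p) {t : Fin 3 → ℕ} (ht : ∀ i, t i < a)
    {X X' : Fin 3 → Submodule k (I27 → k)} {hX : ∀ i g, ∀ x ∈ X i, (V k).comp ((emb f0).comp (ψ.comp pq)) g x ∈ X i}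
    {hX' : ∀ i g, ∀ x ∈ X' i, (V' k).comp ((emb f0).comp (ψ.comp pq)) g x ∈ X' i}
    (hv : ∀ i, IsV ι p (subRep ((V k).comp ((emb f0).comp (ψ.comp pq))) (X i) (hX i)) (nn i * p ^ t i))
    (hv' : ∀ i, IsV ι p (subRep ((V' k).comp ((emb f0).comp (ψ.comp pq))) (X' i) (hX' i)) (nn i * p ^ t i))
    (htop : ⨆ i, X i = ⊤) (htop' : ⨆ i, X' i = ⊤) : False := by
  have hp : p.Prime := hC.prime
  have hexp : ExpChar k p := ExpChar.prime hp
  by_cases hne : ∃ l, ∀ i, i ≠ l → t i ≠ t l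
  · obtain ⟨l, hl⟩ := hne
    exact false_of_ne ι hC.cardK hp13 ht hv htop hl
  · push Not at hne
    obtain ⟨i0, h0, e0⟩ := hne 0
    obtain ⟨i1, h1, e1⟩ := hne 1
    obtain ⟨i2, h2, e2⟩ := hne 2
    have ht1 : ∀ i, t i = t 0 := by
      intro i
      fin_cases i0 <;> fin_cases i1 <;> fin_cases i2 <;> fin_cases i <;> simp_all only [_root_.iSup_fin_three, _root_.Fin.isValue, _root_.ne_eq, _root_.Fin.zero_eta, _root_.not_true_eq_false, _root_.Fin.mk_one, _root_.one_ne_zero, _root_.not_false_eq_true, _root_.zero_ne_one, _root_.Fin.reduceEq, _root_.Fin.reduceFinMk]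
    have hsp : ∀ {v : Fin 3 → ℕ → (I27 → k)} {Y : Fin 3 → Submodule k (I27 → k)},
        (∀ i, Y i = Submodule.span k (Set.range fun s : Fin (nn i + 1) => v i s)) → ⨆ i, Y i = ⊤ →
        ⊤ ≤ Submodule.span k (Set.range fun j : Ix => v j.1 j.2) := by
      intro v Y hY htop
      rw [← htop, iSup_le_iff]
      intro i
      rw [hY, Submodule.span_le]
      rintro _ ⟨s, rfl⟩
      exact Submodule.subset_span ⟨⟨i, s⟩, rfl⟩
    choose v B hspan hfr hli using fun i => exists_bs ι (nn_lt hp13 i) (hv i)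
    choose v' B' hspan' hfr' hli' using fun i => exists_bs ι (nn_lt hp13 i) (hv' i)
    have E : EF ((iterateFrobenius k p (t 0)).comp ι) ((emb f0).comp (ψ.comp pq)) v v' := by
      refine ⟨fun j hj hj' h0 => ?_, ?_, fun i => ?_, fun i => ?_, hsp hspan htop, hsp hspan' htop'⟩
      · have h1 := (CharP.cast_eq_zero_iff k p j).1 h0
        have := Nat.le_of_dvd hj h1
        omega
      · rw [hC.cardK]
        calc 13 ≤ p := hp13
          _ = p ^ 1 := (pow_one p).symm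
          _ ≤ p ^ a := Nat.pow_le_pow_right hp.pos hC.ha
      · have := B i
        rw [ht1 i] at this
        exact this
      · have := B' i
        rw [ht1 i] at this
        exact this
    exact false_of_EF hC E

end split

end Cfsg.Agent.R2.H9.E6.Gr
end

-- part: R2/H9/E6/EB
section
/-!
# The box E : composition factors `12 p^i`, `8 p^j`, `4 p^l`, `p ≥ 13` (helper9)

* `split_both` : three factors, one of them in both socles, no extensions between the others;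
* `Spl`, `spl` : the module is a direct sum;
* `boxE`.
-/

set_option autoImplicit false
set_option linter.unusedSectionVars false
set_option linter.unusedSimpArgs false

namespace Cfsg.Agent.R2.H9.E6.Nsp

open Matrix Cfsg.Agent.H943.SL2Rel Cfsg.Agent.H943.SL2Mod Cfsg.Agent.H943.RepAdd
open Cfsg.Lie Cfsg.Agent.R2.H28.SL2 Cfsg.Agent.R2.H22.Loc
open Cfsg.Agent.ChevalleyStructure Cfsg.Agent.ChevalleyStructure.E6Form.Cubic
  Cfsg.Agent.ChevalleyStructure.E6Form.Table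
open Cfsg.Agent.ChevalleyStructure.E6Min.Basic (Zgrp)
open Cfsg.Agent.H952.F4 (sh cr tf)
open Cfsg.Agent.H952.F4.Jord
open Cfsg.Agent.H163.E6 (V V')
open Cfsg.Agent.H65.E6Emb
open Cfsg.Agent.R2.GEO (Pair crB crB_apply tfB tfB_apply)
open Cfsg.Agent.R2.SL2 (typ tyl coe_tyl typ_step typ_zero listE6 tyl_eq_nil mem_typ tyl_one tyl_two)

universe u v w

attribute [local irreducible] Cfsg.Agent.H952.F4.cr Cfsg.Agent.H952.F4.sh Cfsg.Agent.H952.F4.tf

section gen

variable {k : Type u} [Field k] [DecidableEq k] {F : Type w} [Field F] [Fintype F] [DecidableEq F] (ι : F →+* k)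
variable (p : ℕ) [Fact p.Prime] [CharP k p] [CharP F p] [IsAlgClosed k]

/-- three irreducible submodules spanning the module -/
def Spl {V : Type v} [AddCommGroup V] [Module k V] (ρ : Representation k (_root_.Matrix.SpecialLinearGroup (Fin 2) F) V) (b c d : ℕ) :
    Prop :=
  ∃ (X : Submodule k V) (hX : ∀ g, ∀ x ∈ X, ρ g x ∈ X) (Y : Submodule k V) (hY : ∀ g, ∀ x ∈ Y, ρ g x ∈ Y)
    (Z : Submodule k V) (hZ : ∀ g, ∀ x ∈ Z, ρ g x ∈ Z), IsV ι p (subRep ρ X hX) b ∧ IsV ι p (subRep ρ Y hY) c ∧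
      IsV ι p (subRep ρ Z hZ) d ∧ X ⊔ Y ⊔ Z = ⊤

variable {ι p} in
theorem Spl.rot {V : Type v} [AddCommGroup V] [Module k V] {ρ : Representation k (_root_.Matrix.SpecialLinearGroup (Fin 2) F) V}
    {b c d : ℕ} (h : Spl ι p ρ b c d) : Spl ι p ρ c d b := by
  obtain ⟨X, hX, Y, hY, Z, hZ, h1, h2, h3, h4⟩ := h
  exact ⟨Y, hY, Z, hZ, X, hX, h2, h3, h1, by rw [← h4, sup_assoc X Y Z, sup_comm X]⟩

variable {ι p} in
theorem Spl.flip {V : Type v} [AddCommGroup V] [Module k V] {ρ : Representation k (_root_.Matrix.SpecialLinearGroup (Fin 2) F) V}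
    {b c d : ℕ} (h : Spl ι p ρ b c d) : Spl ι p ρ c b d := by
  obtain ⟨X, hX, Y, hY, Z, hZ, h1, h2, h3, h4⟩ := h
  exact ⟨Y, hY, X, hX, Z, hZ, h2, h1, h3, by rw [← h4, sup_comm Y X]⟩

/-- one factor in both socles -/
theorem split_both {V : Type v} [AddCommGroup V] [Module k V] [FiniteDimensional k V]
    {ρ : Representation k (_root_.Matrix.SpecialLinearGroup (Fin 2) F) V} {V' : Type v} [AddCommGroup V'] [Module k V']
    [FiniteDimensional k V'] {ρ' : Representation k (_root_.Matrix.SpecialLinearGroup (Fin 2) F) V'} {P : V →ₗ[k] V' →ₗ[k] k}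
    (D : Dul ρ ρ' P) {b c d : ℕ} (hbc : b ≠ c) (hbd : b ≠ d) (hcd : c ≠ d)
    (hcf : cf (Sy.{u, v, w} ι p) ρ = b ::ₘ c ::ₘ {d}) (hs : InSoc ι p ρ b) (hs' : InSoc ι p ρ' b)
    (hE : Ext0 (Sy.{u, v, w} ι p) c d ∧ Ext0 (Sy.{u, v, w} ι p) d c) : Spl ι p ρ b c d := by
  obtain ⟨X, hX, hb⟩ := hs
  have h1 : (cf (Sy.{u, v, w} ι p) ρ).count b = 1 := by
    rw [hcf, Multiset.count_cons_self, Multiset.count_eq_zero_of_notMem]
    simp only [Multiset.mem_cons, Multiset.mem_singleton]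
    (clear * - hbc hbd; tauto)
  obtain ⟨Y, hY, hc, -⟩ := exists_compl_of_both ι p D hX hb hs' h1
  have hYcf : cf (Sy.{u, v, w} ι p) (subRep ρ Y hY) = c ::ₘ {d} := by
    have h2 := cf_sup (S := Sy.{u, v, w} ι p) hX hY hc
    rw [hcf, cf_irr (Sy.{u, v, w} ι p) hb, Multiset.singleton_add] at h2
    exact ((Multiset.cons_inj_right b).1 h2).symm
  obtain ⟨X1, X2, hX1, hX2, hc', hV1, hX2cf⟩ := split_one ι p (subRep ρ Y hY) (b := c) (by
      rw [hYcf, Multiset.count_cons_self, Multiset.count_eq_zero_of_notMem]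
      simp only [Multiset.mem_singleton]
      exact hcd)
    (fun e he hne => by
      rw [hYcf, Multiset.mem_cons, Multiset.mem_singleton] at he
      rcases he with h | h
      · exact absurd h hne
      · rw [h]
        exact ⟨hE.2, hE.1⟩)
  rw [hYcf, Multiset.erase_cons_head] at hX2cf
  have hV2 := isV_of_cf ι p hX2cf
  have key : ∀ (Z : Submodule k Y) (hZ : ∀ g, ∀ x ∈ Z, subRep ρ Y hY g x ∈ Z) (c : ℕ), IsV ι p (subRep (subRep ρ Y hY) Z hZ) c →
      ∃ hZ' : ∀ g, ∀ x ∈ Z.map Y.subtype, ρ g x ∈ Z.map Y.subtype, IsV ι p (subRep ρ (Z.map Y.subtype) hZ') c := by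
    intro Z hZ c hc
    obtain ⟨h1, e, he⟩ := eqv_map (subRep ρ Y hY) ρ Y.subtype (fun g x => rfl) Y.injective_subtype Z hZ
    exact ⟨h1, IsV.iso ι p e he hc⟩
  obtain ⟨hZ1, hW1⟩ := key X1 hX1 _ hV1
  obtain ⟨hZ2, hW2⟩ := key X2 hX2 _ hV2
  refine ⟨X, hX, _, hZ1, _, hZ2, hb, hW1, hW2, ?_⟩
  rw [sup_assoc, ← Submodule.map_sup, hc'.sup_eq_top, Submodule.map_top, Submodule.range_subtype, hc.sup_eq_top]

/-- if a factor splits off, the socle contains one of the others -/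
theorem soc_of_split {V : Type v} [AddCommGroup V] [Module k V] [FiniteDimensional k V]
    {ρ : Representation k (_root_.Matrix.SpecialLinearGroup (Fin 2) F) V} {b c d : ℕ} (hbc : b ≠ c) (hbd : b ≠ d)
    (hcf : cf (Sy.{u, v, w} ι p) ρ = b ::ₘ c ::ₘ {d})
    (hE : ∀ e, e = c ∨ e = d → Ext0 (Sy.{u, v, w} ι p) e b ∧ Ext0 (Sy.{u, v, w} ι p) b e) :
    InSoc ι p ρ b ∧ (InSoc ι p ρ c ∨ InSoc ι p ρ d) := by
  obtain ⟨X, Y, hX, hY, hc, h1, h2⟩ := split_one ι p ρ (b := b) (by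
      rw [hcf, Multiset.count_cons_self, Multiset.count_eq_zero_of_notMem]
      simp only [Multiset.mem_cons, Multiset.mem_singleton]
      tauto) (fun e he hne => by
        rw [hcf, Multiset.mem_cons, Multiset.mem_cons, Multiset.mem_singleton] at he
        exact hE e (he.resolve_left hne))
  refine ⟨⟨X, hX, h1⟩, ?_⟩
  rw [hcf, Multiset.erase_cons_head] at h2
  have hY0 : Y ≠ ⊥ := by
    rintro rfl
    have h3 : cf (Sy.{u, v, w} ι p) (subRep ρ ⊥ hY) = 0 := cf_zero _ _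
    rw [h3] at h2
    exact absurd h2.symm (Multiset.cons_ne_zero)
  obtain ⟨e, he1, he2⟩ := exists_inSoc_sub ι p hY hY0
  have h4 := he1.mem_cf
  rw [h2, Multiset.mem_cons, Multiset.mem_singleton] at h4
  rcases h4 with rfl | rfl
  · exact Or.inl he2
  · exact Or.inr he2

end gen

section frame

variable {k : Type u} [Field k] [DecidableEq k] [IsAlgClosed k] {K : Type w} [Field K] [Fintype K] [DecidableEq K]
  {ι : K →+* k} {p a : ℕ} [Fact p.Prime] [CharP k p] [CharP K p]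
  {ψ : _root_.Matrix.SpecialLinearGroup (Fin 2) K →* ↥(Zgrp k)} {ρ ρ' : Representation k ↥(Zgrp k) (I27 → k)}

theorem card_pairs : Fintype.card {q : Fin 5 × Fin 5 // q.1 ≤ q.2} = 15 := by decide

theorem finrank_sq_le {v : ℕ → I27 → k} (h0 : ∀ s, 4 < s → v s = 0) :
    Module.finrank k (Submodule.span k {z | ∃ x ∈ Set.range v, ∃ y ∈ Set.range v, z = cr x y}) ≤ 15 := by
  have h1 : Submodule.span k {z | ∃ x ∈ Set.range v, ∃ y ∈ Set.range v, z = cr x y} ≤
      Submodule.span k (Set.range fun q : {q : Fin 5 × Fin 5 // q.1 ≤ q.2} => cr (v q.1.1) (v q.1.2)) := by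
    rw [Submodule.span_le]
    rintro _ ⟨_, ⟨x, rfl⟩, _, ⟨y, rfl⟩, rfl⟩
    rcases lt_or_ge 4 x with hx | hx
    · rw [h0 x hx, Cfsg.Agent.R2.H22.Loc.cr_zero_left]
      exact Submodule.zero_mem _
    rcases lt_or_ge 4 y with hy | hy
    · rw [h0 y hy, Cfsg.Agent.R2.H22.Loc.cr_zero_right]
      exact Submodule.zero_mem _
    rcases le_total x y with h | h
    · exact Submodule.subset_span ⟨⟨(⟨x, by omega⟩, ⟨y, by omega⟩), h⟩, rfl⟩
    · rw [cr_comm]
      exact Submodule.subset_span ⟨⟨(⟨y, by omega⟩, ⟨x, by omega⟩), h⟩, rfl⟩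
  refine (Submodule.finrank_mono h1).trans ?_
  rw [← card_pairs]
  exact finrank_range_le_card (R := k) (fun q : {q : Fin 5 × Fin 5 // q.1 ≤ q.2} => cr (v q.1.1) (v q.1.2))

/-- `a = 1`, no extensions between 8 and 4 : `V_4` in the socle of `V` gives `V_8` in the socle of `V'` -/
theorem inSoc_eight (f : Fra p a ψ ρ ρ') (ha : a = 1) (h19 : 19 ≤ p) (nts : Nts ψ ρ) (nts' : Nts ψ ρ')
    (hcf : cf (Sy.{u, u, w} ι p) (Rr ρ ψ) = 12 ::ₘ 8 ::ₘ {4})
    (hE : Ext0 (Sy.{u, u, w} ι p) 8 4 ∧ Ext0 (Sy.{u, u, w} ι p) 4 8) (h4 : InSoc ι p (Rr ρ ψ) 4) : InSoc ι p (Rr ρ' ψ) 8 := by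
  have hp : p.Prime := Fact.out
  have hq : Fintype.card K = p := by rw [f.card, ha, pow_one]
  have h' : InSoc ι p (Rr ρ ψ) (4 * p ^ 0) := by rw [pow_zero, mul_one]; exact h4
  obtain ⟨v, c, hv⟩ := exists_ch (by omega : 4 < p) h'
  have hne := four_sh_ne f (by omega) (by omega) nts nts' c (hv 0 (by norm_num))
  have hW := cr_stab f c.stab
  obtain ⟨W, hWe⟩ : ∃ W, W = Submodule.span k {z | ∃ x ∈ Set.range v, ∃ y ∈ Set.range v, z = cr x y} := ⟨_, rfl⟩
  rw [← hWe] at hW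
  have hfr : Module.finrank k W ≤ 15 := by
    rw [hWe]
    exact finrank_sq_le c.zero
  have h44 : cr (v 4) (v 4) ∈ W := by
    rw [hWe]
    exact Submodule.subset_span ⟨v 4, ⟨4, rfl⟩, v 4, ⟨4, rfl⟩, rfl⟩
  have hcf' : cf (Sy.{u, u, w} ι p) (Rr ρ' ψ) = 12 ::ₘ 8 ::ₘ {4} := by rw [f.cf_eq ι, hcf]
  have hle := cf_sub_le (Sy.{u, u, w} ι p) (Rr ρ' ψ) W hW
  rw [hcf'] at hle
  have hmem : ∀ e ∈ cf (Sy.{u, u, w} ι p) (subRep (Rr ρ' ψ) W hW), e = 12 ∨ e = 8 ∨ e = 4 := by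
    intro e he
    have := Multiset.mem_of_le hle he
    simpa using this
  have h8 : 8 ∈ cf (Sy.{u, u, w} ι p) (subRep (Rr ρ' ψ) W hW) := by
    obtain ⟨b, hb, hb'⟩ := mem_cf_of_hw ι p (ρ := subRep (Rr ρ' ψ) W hW) (e := 8) (x := ⟨cr (v 4) (v 4), h44⟩)
      (fun h0 => hne (congrArg Subtype.val h0)) (fun t => Subtype.ext (by
        show ρ' (ψ (u t)) (cr (v 4) (v 4)) = cr (v 4) (v 4)
        rw [← pair_cr f.pair, (four_u c t).2.2.2.2])) (fun b => Subtype.ext (by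
        show ρ' (ψ (h b)) (cr (v 4) (v 4)) = ι b ^ 8 • cr (v 4) (v 4)
        have h1 := c.h 4 le_rfl b
        rw [Rr_apply] at h1
        rw [← pair_cr f.pair, h1, cr_smul_left, cr_smul_right, smul_smul]
        congr 1
        simp only [Nat.sub_self, pow_zero, mul_one, pow_one, ← pow_add]))
    have h1 : 8 % (Fintype.card K - 1) = 8 := Nat.mod_eq_of_lt (by omega)
    rw [h1] at hb'
    rcases hmem b hb with rfl | rfl | rfl
    · rw [Nat.mod_eq_of_lt (by omega)] at hb'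
      omega
    · exact hb
    · rw [Nat.mod_eq_of_lt (by omega)] at hb'
      omega
  have h12 : 12 ∉ cf (Sy.{u, u, w} ι p) (subRep (Rr ρ' ψ) W hW) := by
    intro h12
    have h1 := finrank_cf ι p _ W (subRep (Rr ρ' ψ) W hW) le_rfl
    obtain ⟨s, hs⟩ := Multiset.exists_cons_of_mem h12
    have h2 : 8 ∈ s := by
      rw [hs, Multiset.mem_cons] at h8
      exact h8.resolve_left (by norm_num)
    obtain ⟨s', hs'⟩ := Multiset.exists_cons_of_mem h2
    rw [hs, hs', Multiset.map_cons, Multiset.map_cons, Multiset.sum_cons, Multiset.sum_cons] at h1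
    have c12 : (Bf k 12).card = 13 := by
      have := card_Bf_low k p 12
      rw [Nat.mod_eq_of_lt (by omega), Nat.div_eq_of_lt (by omega), card_Bf_zero] at this
      exact this
    have c8 : (Bf k 8).card = 9 := by
      have := card_Bf_low k p 8
      rw [Nat.mod_eq_of_lt (by omega), Nat.div_eq_of_lt (by omega), card_Bf_zero] at this
      exact this
    rw [c12, c8] at h1
    omega
  obtain ⟨X, Y, hX, hY, -, h1, -⟩ := split_one ι p (subRep (Rr ρ' ψ) W hW) (b := 8) (by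
      have h1 := Multiset.count_le_of_le 8 hle
      have h2 := Multiset.one_le_count_iff_mem.2 h8
      simp at h1
      omega) (fun e he hne => by
        rcases hmem e he with rfl | rfl | rfl
        · exact absurd he h12
        · exact absurd rfl hne
        · exact ⟨hE.2, hE.1⟩)
  have h2 : InSoc ι p (subRep (Rr ρ' ψ) W hW) 8 := ⟨X, hX, h1⟩
  exact h2.iso ι p W.subtype (fun _ _ => rfl) W.injective_subtype

/-- `a = 1`, `p < 29` -/
theorem spl_one (f : Fra p a ψ ρ ρ') (ha : a = 1) (h13 : 13 ≤ p) (h29 : p < 29) (nts : Nts ψ ρ) (nts' : Nts ψ ρ')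
    (hcf : cf (Sy.{u, u, w} ι p) (Rr ρ ψ) = 12 ::ₘ 8 ::ₘ {4}) : Spl ι p (Rr ρ ψ) 12 8 4 := by
  have hp : p.Prime := Fact.out
  have hq : Fintype.card K = p := by rw [f.card, ha, pow_one]
  have hcf' : cf (Sy.{u, u, w} ι p) (Rr ρ' ψ) = 12 ::ₘ 8 ::ₘ {4} := by rw [f.cf_eq ι, hcf]
  have e1 : (12 ::ₘ 8 ::ₘ {4} : Multiset ℕ) = 4 ::ₘ 12 ::ₘ {8} := by decide
  have e2 : (12 ::ₘ 8 ::ₘ {4} : Multiset ℕ) = 8 ::ₘ 12 ::ₘ {4} := by decide
  have four : ∀ {ρ ρ' : Representation k ↥(Zgrp k) (I27 → k)}, Fra p a ψ ρ ρ' → Nts ψ ρ → Nts ψ ρ' →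
      InSoc ι p (Rr ρ ψ) 4 → InSoc ι p (Rr ρ' ψ) 4 := by
    intro ρ ρ' f nts nts' h
    have h1 := inSoc_four (i := 0) f (by omega) (by omega) (by omega) nts nts' (by omega) (by
      rw [pow_zero, mul_one]
      exact h)
    rwa [pow_zero, mul_one] at h1
  have hpc : p = 13 ∨ (p = 17 ∨ p = 19) ∨ p = 23 := by
    interval_cases p <;> first | (clear * -; omega) | (norm_num at hp)
  rcases hpc with hp | hp | hp
  · -- `p = 13`
    obtain ⟨h12, h1⟩ := soc_of_split ι p (by norm_num) (by norm_num) hcf (fun e he => by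
      have h := ext0_13 ι p f.card ha hp he.symm
      exact ⟨h.2, h.1⟩)
    obtain ⟨-, h2⟩ := soc_of_split ι p (by norm_num) (by norm_num) hcf' (fun e he => by
      have h := ext0_13 ι p f.card ha hp he.symm
      exact ⟨h.2, h.1⟩)
    by_cases h4 : InSoc ι p (Rr ρ ψ) 4 ∨ InSoc ι p (Rr ρ' ψ) 4
    · have h5 : InSoc ι p (Rr ρ ψ) 4 ∧ InSoc ι p (Rr ρ' ψ) 4 := by
        rcases h4 with h4 | h4
        · exact ⟨h4, four f nts nts' h4⟩
        · exact ⟨four f.swap nts' nts h4, h4⟩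
      exact (split_both ι p f.dul (by norm_num) (by norm_num) (by norm_num) (hcf.trans e1) h5.1 h5.2
        (ext0_13 ι p f.card ha hp (Or.inr rfl))).rot
    · push Not at h4
      exact (split_both ι p f.dul (by norm_num) (by norm_num) (by norm_num) (hcf.trans e2) (h1.resolve_right h4.1)
        (h2.resolve_right h4.2) (ext0_13 ι p f.card ha hp (Or.inl rfl))).flip
  · -- `p = 17, 19`
    have E12 := ext0_17 ι p f.card ha hp
    have E84 := ext0_84 ι p f.card ha (by omega)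
    have hE : ∀ e, e = 12 ∨ e = 4 → Ext0 (Sy.{u, u, w} ι p) e 8 ∧ Ext0 (Sy.{u, u, w} ι p) 8 e := by
      rintro e (rfl | rfl)
      · exact E12
      · exact ⟨E84.2, E84.1⟩
    obtain ⟨-, h1⟩ := soc_of_split ι p (by norm_num) (by norm_num) (hcf.trans e2) hE
    obtain ⟨-, h2⟩ := soc_of_split ι p (by norm_num) (by norm_num) (hcf'.trans e2) hE
    by_cases h4 : InSoc ι p (Rr ρ ψ) 4 ∨ InSoc ι p (Rr ρ' ψ) 4
    · have h5 : InSoc ι p (Rr ρ ψ) 4 ∧ InSoc ι p (Rr ρ' ψ) 4 := by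
        rcases h4 with h4 | h4
        · exact ⟨h4, four f nts nts' h4⟩
        · exact ⟨four f.swap nts' nts h4, h4⟩
      exact (split_both ι p f.dul (by norm_num) (by norm_num) (by norm_num) (hcf.trans e1) h5.1 h5.2 E12).rot
    · push Not at h4
      exact split_both ι p f.dul (by norm_num) (by norm_num) (by norm_num) hcf (h1.resolve_right h4.1)
        (h2.resolve_right h4.2) E84
  · -- `p = 23`
    have E12 := ext0_23 ι p f.card ha hp
    have E84 := ext0_84 ι p f.card ha (by omega)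
    have hE : ∀ e, e = 12 ∨ e = 8 → Ext0 (Sy.{u, u, w} ι p) e 4 ∧ Ext0 (Sy.{u, u, w} ι p) 4 e := by
      rintro e (rfl | rfl)
      · exact E12
      · exact E84
    obtain ⟨h1, -⟩ := soc_of_split ι p (by norm_num) (by norm_num) (hcf.trans e1) hE
    obtain ⟨h2, -⟩ := soc_of_split ι p (by norm_num) (by norm_num) (hcf'.trans e1) hE
    have h3 := inSoc_eight f ha (by omega) nts nts' hcf E84 h1
    have h4 := inSoc_eight f.swap ha (by omega) nts' nts hcf' E84 h2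
    exact (split_both ι p f.dul (by norm_num) (by norm_num) (by norm_num) (hcf.trans e2) h4 h3 E12).flip

/-- **the module splits** -/
theorem spl (f : Fra p a ψ ρ ρ') (h13 : 13 ≤ p) (nts : Nts ψ ρ) (nts' : Nts ψ ρ') {t : Fin 3 → ℕ} (ht : ∀ i, t i < a)
    (hcf : cf (Sy.{u, u, w} ι p) (Rr ρ ψ) = 12 * p ^ t 0 ::ₘ 8 * p ^ t 1 ::ₘ {4 * p ^ t 2}) :
    Spl ι p (Rr ρ ψ) (12 * p ^ t 0) (8 * p ^ t 1) (4 * p ^ t 2) := by
  by_cases h : 2 ≤ a ∨ 29 ≤ p
  · obtain ⟨X, hX, hV, hc, -⟩ := splitE ι p f.card h13 h (Rr ρ ψ) ht hcf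
    exact ⟨X 0, hX 0, X 1, hX 1, X 2, hX 2, hV 0, hV 1, hV 2, by rw [sup_assoc]; exact hc.sup_eq_top⟩
  · have ha : a = 1 := by
      have := ht 0
      omega
    have ht0 : ∀ i, t i = 0 := fun i => by
      have := ht i
      omega
    rw [ht0, ht0, ht0, pow_zero, mul_one, mul_one, mul_one] at hcf ⊢
    exact spl_one f ha h13 (by omega) nts nts' hcf

end frame

section box

variable {k : Type u} [Field k] [DecidableEq k] [IsAlgClosed k] {K : Type w} [Field K] [Fintype K] [DecidableEq K]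
  {ι : K →+* k} {p a b : ℕ} [Fact p.Prime] [CharP k p] [CharP K p] {F : Type v} [Field F] [Fintype F] {f0 : F →+* k}
  {Γ M : Subgroup ↥(Zgrp F)} {ψ : ProjectiveSpecialLinearGroup (Fin 2) K →* ↥(Zgrp F)}

theorem Spl.fam {V : Type v} [AddCommGroup V] [Module k V] {ρ : Representation k (_root_.Matrix.SpecialLinearGroup (Fin 2) K) V}
    {t : Fin 3 → ℕ} (h : Spl ι p ρ (12 * p ^ t 0) (8 * p ^ t 1) (4 * p ^ t 2)) :
    ∃ (X : Fin 3 → Submodule k V) (hX : ∀ i g, ∀ x ∈ X i, ρ g x ∈ X i),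
      (∀ i, IsV ι p (subRep ρ (X i) (hX i)) (Gr.nn i * p ^ t i)) ∧ ⨆ i, X i = ⊤ := by
  obtain ⟨X, hX, Y, hY, Z, hZ, h1, h2, h3, h4⟩ := h
  refine ⟨![X, Y, Z], ?_, ?_, ?_⟩
  · intro i
    fin_cases i
    · exact hX
    · exact hY
    · exact hZ
  · intro i
    fin_cases i
    · exact h1
    · exact h2
    · exact h3
  · rw [eq_top_iff, ← h4]
    exact sup_le (sup_le (le_iSup ![X, Y, Z] 0) (le_iSup ![X, Y, Z] 1)) (le_iSup ![X, Y, Z] 2)

/-- **box E**, labels -/
theorem boxE' (hC : Cfg p a b Γ M ψ) (f : Fra p a ((emb f0).comp (ψ.comp pq)) (V k) (V' k)) (h13 : 13 ≤ p)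
    (nts : Nts ((emb f0).comp (ψ.comp pq)) (V k)) (nts' : Nts ((emb f0).comp (ψ.comp pq)) (V' k))
    {t : Fin 3 → ℕ} (ht : ∀ i, t i < a)
    (hcf : cf (Sy.{u, u, w} ι p) (Rr (V k) ((emb f0).comp (ψ.comp pq))) =
      12 * p ^ t 0 ::ₘ 8 * p ^ t 1 ::ₘ {4 * p ^ t 2}) : False := by
  obtain ⟨X, hX, hV, htop⟩ := (spl f h13 nts nts' ht hcf).fam
  obtain ⟨X', hX', hV', htop'⟩ := (spl f.swap h13 nts' nts ht (by rw [f.cf_eq ι, hcf])).fam
  exact Gr.boxE_split ι hC h13 ht hV hV' htop htop'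

/-- **box E** -/
theorem boxE (hC : Cfg p a b Γ M ψ) (f : Fra p a ((emb f0).comp (ψ.comp pq)) (V k) (V' k)) (h13 : 13 ≤ p)
    (nts : Nts ((emb f0).comp (ψ.comp pq)) (V k)) (nts' : Nts ((emb f0).comp (ψ.comp pq)) (V' k))
    (hw : (([[4], [8], [12]] : List (List ℕ)) : Multiset (List ℕ)) =
      (cf (Sy.{u, u, w} ι p) (Rr (V k) ((emb f0).comp (ψ.comp pq)))).map (tyl p)) : False := by
  have hlt := cf_lt ι p f.card (Rr (V k) ((emb f0).comp (ψ.comp pq)))
  obtain ⟨S, hS⟩ : ∃ S, S = cf (Sy.{u, u, w} ι p) (Rr (V k) ((emb f0).comp (ψ.comp pq))) := ⟨_, rfl⟩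
  rw [← hS] at hw hlt
  obtain ⟨x, hx, hx'⟩ : ∃ x ∈ S, tyl p x = [12] := by
    have : [12] ∈ S.map (tyl p) := by
      rw [← hw]
      decide
    obtain ⟨x, hx, e⟩ := Multiset.mem_map.1 this
    exact ⟨x, hx, e⟩
  obtain ⟨S1, hS1⟩ := Multiset.exists_cons_of_mem hx
  have e1 : (([[4], [8], [12]] : List (List ℕ)) : Multiset (List ℕ)) = [12] ::ₘ [8] ::ₘ {[4]} := by decide
  rw [hS1, Multiset.map_cons, hx', e1] at hw
  have hw1 := (Multiset.cons_inj_right _).1 hw
  obtain ⟨y, hy, hy'⟩ : ∃ y ∈ S1, tyl p y = [8] := by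
    have : [8] ∈ S1.map (tyl p) := by
      rw [← hw1]
      exact Multiset.mem_cons_self _ _
    obtain ⟨x, hx, e⟩ := Multiset.mem_map.1 this
    exact ⟨x, hx, e⟩
  obtain ⟨S2, hS2⟩ := Multiset.exists_cons_of_mem hy
  rw [hS2, Multiset.map_cons, hy'] at hw1
  have hw2 := (Multiset.cons_inj_right _).1 hw1
  obtain ⟨z, hz, hz'⟩ := Multiset.map_eq_singleton.1 hw2.symm
  subst hz
  have mx : x ∈ S := hx
  have my : y ∈ S := by
    rw [hS1]
    exact Multiset.mem_cons_of_mem hy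
  have mz : z ∈ S := by
    rw [hS1, hS2]
    simp
  obtain ⟨i, hi, rfl⟩ := tyl_single_inv hx' (hlt _ mx) (by norm_num)
  obtain ⟨j, hj, rfl⟩ := tyl_single_inv hy' (hlt _ my) (by norm_num)
  obtain ⟨l, hl, rfl⟩ := tyl_single_inv hz' (hlt _ mz) (by norm_num)
  refine boxE' hC f h13 nts nts' (t := ![i, j, l]) (fun s => ?_) (ι := ι) ?_
  · fin_cases s
    · exact hi
    · exact hj
    · exact hl
  · rw [← hS, hS1, hS2]
    rfl

end box

end Cfsg.Agent.R2.H9.E6.Nsp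
end

-- part: R2/H8/Core/Fin
section
/-!
# S5749, S5750: the final reduction (helper8)

`Rest` : the statement on the remaining patterns; `core_of_rest`; `e6_of_rest`, `tw_of_rest` : the two statements.
-/

set_option autoImplicit false

namespace Cfsg.Agent.R2.H8.Core

open Cfsg Cfsg.Lie Module Matrix
open Cfsg.Agent.ChevalleyStructure.E6Min.Basic
open Cfsg.Agent.H943.SL2Mod Cfsg.Agent.R2.H28.SL2
open Cfsg.Agent.H163.E6 (V V')
open Cfsg.Agent.R2.H9.E6
open Cfsg.Agent.R2.H22.Loc (Nts)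
open Cfsg.Agent.R2.SL2 (tyl)

universe u v

/-- the remaining patterns (`p = 11`) are impossible -/
def Rest {F : Type u} [Field F] [Fintype F] {K : Type v} [Field K] [Fintype K] (p a : ℕ)
    (ψ : ProjectiveSpecialLinearGroup (Fin 2) K →* ↥(Zgrp F)) : Prop :=
  ∀ [DecidableEq (AlgebraicClosure F)] [DecidableEq K] [Fact p.Prime] [CharP (AlgebraicClosure F) p] [CharP K p]
      (ι : K →+* AlgebraicClosure F) (W : List (List ℕ)),
      Fra p a (psk ψ) (V (AlgebraicClosure F)) (V' (AlgebraicClosure F)) → Nts (psk ψ) (V (AlgebraicClosure F)) →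
      Nts (psk ψ) (V' (AlgebraicClosure F)) →
      (p = 11 ∧ 2 ≤ a ∧ W = [[1, 1], [4], [8], [8]]) ∨ (a = 1 ∧ p = 11 ∧ W = [[], [2], [4], [8], [8]]) →
      (W : Multiset (List ℕ)) = (cf (Sy.{u, u, v} ι p) (Rr (V (AlgebraicClosure F)) (psk ψ))).map (tyl p) → False

/-- **the configuration is impossible** -/
theorem core_of_rest {F : Type u} [Field F] [Fintype F] {K : Type v} [Field K] [Fintype K] {p a b : ℕ}
    {Γ M : Subgroup ↥(Zgrp F)} {ψ : ProjectiveSpecialLinearGroup (Fin 2) K →* ↥(Zgrp F)} (h : Cfg p a b Γ M ψ)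
    (hr : Rest p a ψ) : False := by
  have hp := h.prime
  have h2 := hp.two_le
  by_cases h2' : p = 2
  · subst h2'
    exact core_two h
  by_cases h3 : p = 3
  · subst h3
    exact core_three h
  have h4 : p ≠ 4 := by
    rintro rfl
    exact absurd hp (by norm_num)
  refine core_five_of h (by omega) ?_
  intro _ _ _ _ _ ι W f nts nts' hW hw
  rcases hW with ⟨h13, rfl⟩ | hW
  · exact Nsp.boxE (ι := ι) (f0 := algebraMap F (AlgebraicClosure F)) h f h13 nts nts' hw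
  · exact hr ι W f nts nts' hW hw

/-- **S5749** -/
theorem e6_of_rest {F : Type u} [Field F] [Fintype F] (p : ℕ) [Fact p.Prime] [CharP F p]
    (H : Subgroup (chevE6.group F)) (hH : IsCoatom H) {K : Type v} [Field K] [Fintype K] (a : ℕ) (ha : 1 ≤ a)
    (hK : Fintype.card K = p ^ a)
    (hr : ∀ (b : ℕ) (M : Subgroup ↥(Zgrp F)) (ψ : ProjectiveSpecialLinearGroup (Fin 2) K →* ↥(Zgrp F)),
      Fintype.card F = p ^ b → Cfg p a b ⊤ M ψ → Rest p a ψ) :
    IsEmpty (generalizedFittingSubgroup H ≃* ProjectiveSpecialLinearGroup (Fin 2) K) :=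
  e6_of_core p H hH a ha hK fun b M ψ hF h => core_of_rest h (hr b M ψ hF h)

/-- **S5750** -/
theorem tw_of_rest {L : Type u} [Field L] [Fintype L] (p b : ℕ) [Fact p.Prime] (hb : 1 ≤ b)
    (hL : Fintype.card L = (p ^ b) ^ 2)
    (H : Subgroup (twistedE6 L (p ^ b))) (hH : IsCoatom H) {K : Type v} [Field K] [Fintype K] (a : ℕ) (ha : 1 ≤ a)
    (hK : Fintype.card K = p ^ a)
    (hr : ∀ (Γ M : Subgroup ↥(Zgrp L)) (ψ : ProjectiveSpecialLinearGroup (Fin 2) K →* ↥(Zgrp L)),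
      Cfg p a b Γ M ψ → Rest p a ψ) :
    IsEmpty (generalizedFittingSubgroup H ≃* ProjectiveSpecialLinearGroup (Fin 2) K) :=
  tw_of_core p b hb hL H hH a ha hK fun Γ M ψ h _ => core_of_rest h (hr Γ M ψ h)

end Cfsg.Agent.R2.H8.Core
end

private theorem dce_0aa6239abf91 : _root_.True := by
  try have : _root_.True := by simp only [_root_.Cfsg.Agent.R2.H9.E6.Nsp.cov.eq_1]
  try have : _root_.True := by simp only [_root_.Cfsg.Agent.R2.H9.E6.Nsp.cov.eq_2]
  try have : _root_.True := by simp only [_root_.Cfsg.Agent.R2.H28.SL2.IsV.congr_simp]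
  try have : _root_.True := by simp only [_root_.Cfsg.Agent.R2.H9.E6.Nsp.cov.eq_6]
  try have : _root_.True := by simp only [_root_.Cfsg.Agent.R2.H9.E6.Nsp.cov.eq_4]
  try have : _root_.True := by simp only [_root_.Cfsg.Agent.R2.H9.E6.Nsp.cov.eq_3]
  try have : _root_.True := by simp only [_root_.Cfsg.Agent.R2.H9.E6.Nsp.cov.eq_5]
  exact _root_.True.intro
end

-- part: R2/H14/E11/Fin
section
prune_inst 0x120000000800000000000000800008000000200000400000000000000000000000000008104c00000000000000000400000500000080400002000004060006800000000000000000000000000000000000010000000000000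
set_option linter.all false
open scoped Cfsg.Agent.FastGrp

-- part: R2/H28/SL2/E11
section
/-!
# The patterns for `p = 11` (helper28)

* `Fra.soc_eight` : `a ≥ 2`, `p ≥ 11`: if `V_{4 p^i}` is in the socle of `V` then `V_{8 p^i}` is in the socle of `V'`;
* `Fra.e11` : structure for the pattern `[1,1], [4], [8], [8]`;
* `Fra.q11` : structure for the pattern `[], [2], [4], [8], [8]`.
-/

set_option autoImplicit false
set_option linter.unusedSectionVars false

namespace Cfsg.Agent.R2.H28.SL2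

open Matrix Cfsg.Agent.H943.SL2Rel Cfsg.Agent.H943.SL2Mod Cfsg.Agent.H943.RepAdd
open Cfsg.Lie
open Cfsg.Agent.ChevalleyStructure Cfsg.Agent.ChevalleyStructure.E6Form.Cubic
  Cfsg.Agent.ChevalleyStructure.E6Form.Table
open Cfsg.Agent.ChevalleyStructure.E6Min.Basic (Zgrp)
open Cfsg.Agent.H952.F4 (sh cr tf)
open Cfsg.Agent.H952.F4.Jord
open Cfsg.Agent.R2.GEO (Pair crB crB_apply tfB tfB_apply)
open Cfsg.Agent.R2.SL2 (typ tyl coe_tyl typ_step typ_zero listE6 tyl_eq_nil mem_typ tyl_one tyl_two)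
open Cfsg.Agent.R2.H22.Loc (Nts Ch exists_ch four_sh_ne not_inSoc_two not_inSoc_pair four_w four_u)

universe u v w

section General

variable {k : Type u} [Field k] [DecidableEq k] {F : Type w} [Field F] [Fintype F] [DecidableEq F] (ι : F →+* k)
variable (p : ℕ) [Fact p.Prime] [CharP k p] [CharP F p] [IsAlgClosed k] {a : ℕ} (hF : Fintype.card F = p ^ a)
variable {V : Type v} [AddCommGroup V] [Module k V] [FiniteDimensional k V]
  {ρ : Representation k (_root_.Matrix.SpecialLinearGroup (Fin 2) F) V} {V' : Type v} [AddCommGroup V'] [Module k V']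
  [FiniteDimensional k V'] {ρ' : Representation k (_root_.Matrix.SpecialLinearGroup (Fin 2) F) V'} {P : V →ₗ[k] V' →ₗ[k] k}

/-- **uniqueness of a submodule `V_c`** : if `V_b` would be a summand of `V / (V_c ⊕ V_c)` -/
theorem uniq_of_split (D : Dul ρ ρ' P) {b c : ℕ} (hb : ¬ InSoc ι p ρ' b) (hbc : b ≠ c)
    (h1 : (cf (Sy.{u, v, w} ι p) ρ).count b = 1) (h2 : (cf (Sy.{u, v, w} ι p) ρ).count c ≤ 2)
    (hE : ∀ d ∈ cf (Sy.{u, v, w} ι p) ρ, d ≠ b → d ≠ c → Ext0 (Sy.{u, v, w} ι p) d b ∧ Ext0 (Sy.{u, v, w} ι p) b d)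
    {X₁ X₂ : Submodule k V} (hX₁ : ∀ g, ∀ x ∈ X₁, ρ g x ∈ X₁) (hX₂ : ∀ g, ∀ x ∈ X₂, ρ g x ∈ X₂)
    (hc₁ : IsV ι p (subRep ρ X₁ hX₁) c) (hc₂ : IsV ι p (subRep ρ X₂ hX₂) c) : X₁ = X₂ := by
  rcases hc₁.inf_or_le ι p hX₂ with h3 | h3
  swap
  · -- equal dimensions
    refine Submodule.eq_of_le_of_finrank_eq h3 ?_
    rw [hc₁.finrank ι, hc₂.finrank ι]
  exfalso
  have hi : ∀ g, ∀ x ∈ X₁ ⊔ X₂, ρ g x ∈ X₁ ⊔ X₂ := by
    intro g x hx
    obtain ⟨y, hy, z, hz, rfl⟩ := Submodule.mem_sup.1 hx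
    rw [map_add]
    exact Submodule.add_mem_sup (hX₁ g y hy) (hX₂ g z hz)
  -- the factors of the sum
  have hsum : cf (Sy.{u, v, w} ι p) (subRep ρ (X₁ ⊔ X₂) hi) = {c, c} := by
    have hcm : ∀ {X : Submodule k V} (hX : ∀ g, ∀ x ∈ X, ρ g x ∈ X) (hle : X ≤ X₁ ⊔ X₂) (_ : IsV ι p (subRep ρ X hX) c),
        ∃ hX' : ∀ g, ∀ x ∈ X.comap (X₁ ⊔ X₂).subtype, subRep ρ (X₁ ⊔ X₂) hi g x ∈ X.comap (X₁ ⊔ X₂).subtype,
        IsV ι p (subRep (subRep ρ (X₁ ⊔ X₂) hi) (X.comap (X₁ ⊔ X₂).subtype) hX') c := by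
      intro X hX hle hc
      refine ⟨fun g x hx => hX g _ hx, ?_⟩
      refine IsV.iso ι p (Submodule.comapSubtypeEquivOfLe hle).symm (fun g x => ?_) hc
      rfl
    obtain ⟨hY₁, hV₁⟩ := hcm hX₁ le_sup_left hc₁
    obtain ⟨hY₂, hV₂⟩ := hcm hX₂ le_sup_right hc₂
    have hcomp : IsCompl (X₁.comap (X₁ ⊔ X₂).subtype) (X₂.comap (X₁ ⊔ X₂).subtype) := by
      rw [isCompl_iff, disjoint_iff, codisjoint_iff]
      constructor
      · rw [← Submodule.comap_inf, h3, eq_bot_iff]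
        intro x hx
        exact Subtype.ext hx
      · rw [eq_top_iff]
        rintro ⟨x, hx⟩ -
        obtain ⟨y, hy, z, hz, rfl⟩ := Submodule.mem_sup.1 hx
        have h4 : (⟨y + z, hx⟩ : ↥(X₁ ⊔ X₂)) = ⟨y, le_sup_left (a := X₁) hy⟩ + ⟨z, le_sup_right (a := X₁) hz⟩ := rfl
        rw [h4]
        exact Submodule.add_mem_sup hy hz
    rw [cf_sup (S := Sy.{u, v, w} ι p) hY₁ hY₂ hcomp, cf_irr (Sy.{u, v, w} ι p) hV₁, cf_irr (Sy.{u, v, w} ι p) hV₂]
    rfl
  have hadd := cf_add (Sy.{u, v, w} ι p) ρ (X₁ ⊔ X₂) hi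
  rw [hsum] at hadd
  have hcnt : (cf (Sy.{u, v, w} ι p) (quotRep ρ (X₁ ⊔ X₂) hi)).count b = 1 := by
    rw [hadd, Multiset.count_add] at h1
    have h4 : ({c, c} : Multiset ℕ).count b = 0 := by
      rw [Multiset.count_eq_zero]
      simp only [Multiset.insert_eq_cons, Multiset.mem_cons, Multiset.mem_singleton]
      (clear * - hbc; tauto)
    omega
  have hcc : c ∉ cf (Sy.{u, v, w} ι p) (quotRep ρ (X₁ ⊔ X₂) hi) := by
    rw [hadd, Multiset.count_add] at h2
    have h4 : ({c, c} : Multiset ℕ).count c = 2 := by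
      rw [Multiset.insert_eq_cons, Multiset.count_cons_self, Multiset.count_singleton_self]
    rw [← Multiset.count_eq_zero]
    omega
  obtain ⟨Z, T, hZ, hT, hcomp, hZb, -⟩ := split_one ι p (quotRep ρ (X₁ ⊔ X₂) hi) hcnt fun d hd hdb =>
    hE d (Multiset.mem_of_le (cf_quot_le (Sy.{u, v, w} ι p) ρ _ hi) hd) hdb fun h => hcc (by rw [← h]; exact hd)
  obtain ⟨B', D', -⟩ := D.quot hi
  have h5 := compl_inSoc ι p D' hZ hT hcomp hZb
  exact hb (h5.iso ι p (orth P (X₁ ⊔ X₂)).subtype (fun _ _ => rfl) (orth P (X₁ ⊔ X₂)).injective_subtype)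

end General

section Frame

variable {k : Type u} [Field k] [DecidableEq k] [IsAlgClosed k] {K : Type w} [Field K] [Fintype K] [DecidableEq K]
  (ι : K →+* k) {p a : ℕ} [Fact p.Prime] [CharP k p] [CharP K p]
  {ψ : _root_.Matrix.SpecialLinearGroup (Fin 2) K →* ↥(Zgrp k)} {ρ ρ' : Representation k ↥(Zgrp k) (I27 → k)}

/-- **the product of the highest weight vectors of `V_{4 p^i}`** -/
theorem Fra.soc_eight (f : Fra p a ψ ρ ρ') (hp11 : 11 ≤ p) (ha : 2 ≤ a) (nts : Nts ψ ρ) (nts' : Nts ψ ρ') {i : ℕ}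
    (hi : i < a) (h4 : InSoc ι p (Rr ρ ψ) (4 * p ^ i)) : InSoc ι p (Rr ρ' ψ) (8 * p ^ i) := by
  have hp : p.Prime := Fact.out
  have hpa : p ^ 2 ≤ p ^ a := Nat.pow_le_pow_right (by omega) ha
  have hpp : 121 ≤ p ^ a := le_trans (by nlinarith only [hp11]) hpa
  obtain ⟨X, hX, hb⟩ := h4
  obtain ⟨v₀, hv₀⟩ := hb.basS ι p (by omega)
  obtain ⟨v, c, hsp⟩ := exists_chn ι p hX (by omega : 4 < p) hb
  have hvX : ∀ s, v s ∈ X := by
    intro s
    rcases Nat.lt_or_ge 4 s with hs | hs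
    · rw [c.zero s hs]
      exact X.zero_mem
    · rw [← hsp]
      exact Submodule.subset_span ⟨⟨s, by omega⟩, rfl⟩
  have hc : Ch ι p (Rr ρ ψ) 4 i v := ⟨c.zero, c.u, c.h, c.w⟩
  have h9 : 9 ≤ Fintype.card K := by rw [f.card]; omega
  have hne := four_sh_ne f (by omega) h9 nts nts' hc (c.ne 0 (by norm_num))
  have hU : ∀ t, Rr ρ' ψ (u t) (cr (v 4) (v 4)) = cr (v 4) (v 4) := by
    intro t
    rw [Rr_apply, ← pair_cr f.pair, (four_u hc t).2.2.2.2]
  have hH : ∀ b, Rr ρ' ψ (h b) (cr (v 4) (v 4)) = ι b ^ (8 * p ^ i) • cr (v 4) (v 4) := by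
    intro b
    have h1 := hc.h 4 le_rfl b
    rw [Rr_apply] at h1
    rw [Rr_apply, ← pair_cr f.pair, h1, Cfsg.Agent.H952.F4.Jord.cr_smul_left, Cfsg.Agent.H952.F4.Jord.cr_smul_right,
      smul_smul, Nat.sub_self, pow_zero, mul_one, ← pow_add, ← pow_mul, mul_comm (p ^ i)]
  -- the factors of the span of the products
  have hle := cf_Im ι f hX
  rw [cf_sq_single ι p f.card (by omega) hi hb] at hle
  have e : sqs p a i 4 = one p a i 8 + (one p a i 4 + {0}) := rfl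
  have e' : sqs p a i 4 = {8 * p ^ i, 4 * p ^ i, 0} := by
    rw [e]
    unfold one
    rw [if_pos (by omega), if_pos (by omega)]
    rfl
  rw [e'] at hle
  have hpi : 0 < p ^ i := Nat.pow_pos hp.pos
  have h8 : 8 * p ^ i < p ^ a - 1 := by
    have h2 : p ^ (i + 1) ≤ p ^ a := Nat.pow_le_pow_right (by omega) (by omega)
    rw [pow_succ] at h2
    have h3 : p ^ i * 11 ≤ p ^ i * p := Nat.mul_le_mul_left _ hp11
    omega
  obtain ⟨b, hbI, hbm⟩ := mem_cf_of_hw ι p (ρ := subRep (Rr ρ' ψ) (Im X) (Im_inv f hX)) (e := 8 * p ^ i)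
    (x := ⟨cr (v 4) (v 4), cr_mem_Im (hvX 4) (hvX 4)⟩) (fun h0 => hne (congrArg Subtype.val h0))
    (fun t => Subtype.ext (hU t)) (fun b => Subtype.ext (hH b))
  have hmem : ∀ d ∈ cf (Sy.{u, u, w} ι p) (subRep (Rr ρ' ψ) (Im X) (Im_inv f hX)), d = 8 * p ^ i ∨ d = 4 * p ^ i ∨ d = 0 := by
    intro d hd
    have h1 := Multiset.mem_of_le hle hd
    simpa only [Multiset.insert_eq_cons, Multiset.mem_cons, Multiset.mem_singleton] using h1
  have hb8 : b = 8 * p ^ i := by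
    rw [f.card, Nat.mod_eq_of_lt h8] at hbm
    rcases hmem b hbI with h | h | h
    · exact h
    · rw [h, Nat.mod_eq_of_lt (by omega)] at hbm
      omega
    · rw [h, Nat.zero_mod] at hbm
      omega
  subst hb8
  have hcnt : (cf (Sy.{u, u, w} ι p) (subRep (Rr ρ' ψ) (Im X) (Im_inv f hX))).count (8 * p ^ i) = 1 := by
    have h1 := Multiset.count_le_of_le (8 * p ^ i) hle
    have h2 : ({8 * p ^ i, 4 * p ^ i, 0} : Multiset ℕ).count (8 * p ^ i) = 1 := by
      rw [Multiset.insert_eq_cons, Multiset.insert_eq_cons, Multiset.count_cons_self, Multiset.count_eq_zero_of_notMem]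
      simp only [Multiset.mem_cons, Multiset.mem_singleton]
      omega
    have h3 := Multiset.one_le_count_iff_mem.2 hbI
    omega
  obtain ⟨Z, T, hZ, hT, -, hZb, -⟩ := split_one ι p (subRep (Rr ρ' ψ) (Im X) (Im_inv f hX)) hcnt fun d hd hne => by
    rcases hmem d hd with h | h | h
    · exact absurd h hne
    · rw [h]
      exact ⟨ext0_same ι p f.card (by omega) (by omega) (by omega) hi (by omega),
        ext0_same ι p f.card (by omega) (by omega) (by omega) hi (by omega)⟩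
    · rw [h]
      have h1 := ext0_same ι p f.card (by omega) (n := 8) (m := 0) (i := i) (by omega) (by omega) hi (by omega)
      have h2 := ext0_same ι p f.card (by omega) (n := 0) (m := 8) (i := i) (by omega) (by omega) hi (by omega)
      rw [zero_mul] at h1 h2
      exact ⟨h2, h1⟩
  have h5 : InSoc ι p (subRep (Rr ρ' ψ) (Im X) (Im_inv f hX)) (8 * p ^ i) := ⟨Z, hZ, hZb⟩
  exact h5.iso ι p (Im X).subtype (fun _ _ => rfl) (Im X).injective_subtype

/-- the structure of `V` for `p = 11` -/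
structure S11 (ρ : Representation k (_root_.Matrix.SpecialLinearGroup (Fin 2) K) (I27 → k)) (m : ℕ) (R : Multiset ℕ) : Prop where
  soc8 : InSoc ι p ρ (8 * p ^ m)
  uniq : ∀ (X₁ X₂ : Submodule k (I27 → k)) (hX₁ : ∀ g, ∀ x ∈ X₁, ρ g x ∈ X₁) (hX₂ : ∀ g, ∀ x ∈ X₂, ρ g x ∈ X₂),
    IsV ι p (subRep ρ X₁ hX₁) (8 * p ^ m) → IsV ι p (subRep ρ X₂ hX₂) (8 * p ^ m) → X₁ = X₂
  compl : ∃ (C : Submodule k (I27 → k)) (Y : Submodule k (I27 → k)) (hC : ∀ g, ∀ x ∈ C, ρ g x ∈ C)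
    (hY : ∀ g, ∀ x ∈ Y, ρ g x ∈ Y), IsCompl C Y ∧ IsV ι p (subRep ρ C hC) (4 * p ^ m) ∧
      cf (Sy.{u, u, w} ι p) (subRep ρ Y hY) = {8 * p ^ m, 8 * p ^ m} + R

theorem single_inj {p n i j : ℕ} (hp : 1 < p) (hn : 0 < n) (h : n * p ^ i = n * p ^ j) : i = j :=
  Nat.pow_right_injective hp (Nat.eq_of_mul_eq_mul_left hn h)

/-- the pattern `[1,1], [4], [8], [8]` : the labels, up to the positions -/
theorem Fra.e11_lab (f : Fra p a ψ ρ ρ') {W : List (List ℕ)} (hW : W = [[1, 1], [4], [8], [8]])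
    (hw : (W : Multiset (List ℕ)) = (cf (Sy.{u, u, w} ι p) (Rr ρ ψ)).map (tyl p)) :
    ∃ i₁ < a, ∃ i₂ < a, i₁ ≠ i₂ ∧ ∃ j < a, ∃ m₁ < a, ∃ m₂ < a, cf (Sy.{u, u, w} ι p) (Rr ρ ψ) =
      (p ^ i₁ + p ^ i₂) ::ₘ (4 * p ^ j) ::ₘ (8 * p ^ m₁) ::ₘ {8 * p ^ m₂} := by
  have hlt := cf_lt ι p f.card (Rr ρ ψ)
  have e : (W : Multiset (List ℕ)) = [1, 1] ::ₘ [4] ::ₘ [8] ::ₘ [8] ::ₘ 0 := by
    rw [hW]
    rfl
  rw [e] at hw
  obtain ⟨b₁, s₁, hs₁, ht₁, hw⟩ := map_cons_inv _ hw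
  obtain ⟨b₂, s₂, hs₂, ht₂, hw⟩ := map_cons_inv _ hw
  obtain ⟨b₃, s₃, hs₃, ht₃, hw⟩ := map_cons_inv _ hw
  obtain ⟨b₄, s₄, hs₄, ht₄, hw⟩ := map_cons_inv _ hw
  have hs5 : s₄ = 0 := Multiset.map_eq_zero.1 hw.symm
  subst hs5 hs₄ hs₃ hs₂
  obtain ⟨i₁, hi₁, i₂, hi₂, h12, rfl⟩ := tyl_pair_inv ht₁ (hlt b₁ (by rw [hs₁]; simp)) (by norm_num) (by norm_num)
  obtain ⟨j, hj, rfl⟩ := tyl_single_inv ht₂ (hlt b₂ (by rw [hs₁]; simp)) (by norm_num)
  obtain ⟨m₁, hm₁, rfl⟩ := tyl_single_inv ht₃ (hlt b₃ (by rw [hs₁]; simp)) (by norm_num)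
  obtain ⟨m₂, hm₂, rfl⟩ := tyl_single_inv ht₄ (hlt b₄ (by rw [hs₁]; simp)) (by norm_num)
  rw [one_mul, one_mul] at hs₁
  exact ⟨i₁, hi₁, i₂, hi₂, h12, j, hj, m₁, hm₁, m₂, hm₂, hs₁⟩

/-- the positions -/
theorem Fra.e11_cf (f : Fra p a ψ ρ ρ') (hp11 : p = 11) (ha : 2 ≤ a) (nts : Nts ψ ρ) (nts' : Nts ψ ρ')
    {W : List (List ℕ)} (hW : W = [[1, 1], [4], [8], [8]])
    (hw : (W : Multiset (List ℕ)) = (cf (Sy.{u, u, w} ι p) (Rr ρ ψ)).map (tyl p)) :
    ∃ m < a, cf (Sy.{u, u, w} ι p) (Rr ρ ψ) =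
      (p ^ m + p ^ ((m + 1) % a)) ::ₘ (4 * p ^ m) ::ₘ (8 * p ^ m) ::ₘ {8 * p ^ m} ∧
      InSoc ι p (Rr ρ ψ) (8 * p ^ m) ∧ InSoc ι p (Rr ρ' ψ) (8 * p ^ m) := by
  have hp : p.Prime := Fact.out
  obtain ⟨i₁, hi₁, i₂, hi₂, h12, j, hj, m₁, hm₁, m₂, hm₂, hcf⟩ := f.e11_lab ι hW hw
  set B := p ^ i₁ + p ^ i₂ with hB
  have tB : tyl p B = [1, 1] := by
    have h := tyl_pair (p := p) (n := 1) (m := 1) (by norm_num) (by omega) (by norm_num) (by omega) h12
    rwa [one_mul, one_mul] at h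
  have t4 : tyl p (4 * p ^ j) = [4] := tyl_single (by norm_num) (by omega) j
  have t8 : ∀ m, tyl p (8 * p ^ m) = [8] := fun m => tyl_single (by norm_num) (by omega) m
  have hB4 : B ≠ 4 * p ^ j := fun h => by rw [h, t4] at tB; simp at tB
  have hB8 : ∀ m, B ≠ 8 * p ^ m := fun m h => by rw [h, t8] at tB; simp at tB
  have h48 : ∀ m, 4 * p ^ j ≠ 8 * p ^ m := fun m h => by rw [h, t8] at t4; simp at t4
  have hcf' : cf (Sy.{u, u, w} ι p) (Rr ρ' ψ) = B ::ₘ (4 * p ^ j) ::ₘ (8 * p ^ m₁) ::ₘ {8 * p ^ m₂} := by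
    rw [f.cf_eq ι, hcf]
  have nB : ¬ InSoc ι p (Rr ρ ψ) B := not_inSoc_pair f (by omega) nts nts' h12 hi₁ hi₂
  have nB' : ¬ InSoc ι p (Rr ρ' ψ) B := not_inSoc_pair f.swap (by omega) nts' nts h12 hi₁ hi₂
  have hmem : ∀ d ∈ cf (Sy.{u, u, w} ι p) (Rr ρ ψ), d = B ∨ d = 4 * p ^ j ∨ d = 8 * p ^ m₁ ∨ d = 8 * p ^ m₂ := by
    intro d hd
    rw [hcf] at hd
    simpa only [Multiset.mem_cons, Multiset.mem_singleton] using hd
  have hsm : ∀ d ∈ cf (Sy.{u, u, w} ι p) (Rr ρ ψ), tyl p d = [p - 3] ∨ ∀ e ∈ tyl p d, e < p - 3 := by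
    intro d hd
    rcases hmem d hd with h | h | h | h
    · rw [h, tB, hp11]
      decide
    · rw [h, t4, hp11]
      decide
    · rw [h, t8, hp11]
      decide
    · rw [h, t8, hp11]
      decide
  -- the neighbours
  have key : ∀ (s : Multiset ℕ), s = {8 * p ^ m₁, 8 * p ^ m₂} → 1 < (s.map (nb p a)).count B →
      nb p a (8 * p ^ m₁) = B ∧ nb p a (8 * p ^ m₂) = B := by
    rintro s rfl h
    rw [Multiset.insert_eq_cons, Multiset.map_cons, Multiset.map_singleton, Multiset.count_cons, Multiset.count_singleton] at h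
    split_ifs at h with h1 h2 h2
    · exact ⟨h2.symm, h1.symm⟩
    all_goals omega
  have hx := extp_11 ι p f.card f.dul (by omega) ha hi₁ hi₂ h12 nB nB' (by rw [hcf]; exact Multiset.mem_cons_self _ _) hsm
  have hfil : (cf (Sy.{u, u, w} ι p) (Rr ρ ψ)).filter (fun d => tyl p d = [p - 3]) = {8 * p ^ m₁, 8 * p ^ m₂} := by
    rw [hcf, Multiset.filter_cons_of_neg _ (by rw [tB]; simp), Multiset.filter_cons_of_neg _ (by rw [t4, hp11]; simp),
      Multiset.filter_cons_of_pos _ (by rw [t8, hp11]), Multiset.filter_eq_self.2]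
    · rfl
    · intro d hd
      rw [Multiset.mem_singleton.1 hd, t8, hp11]
  have hcB : (cf (Sy.{u, u, w} ι p) (Rr ρ ψ)).count B = 1 := by
    rw [hcf, Multiset.count_cons_self, Multiset.count_eq_zero_of_notMem]
    simp only [Multiset.mem_cons, Multiset.mem_singleton]
    have h1 := hB8 m₁
    have h2 := hB8 m₂
    (clear * - hB4 h1 h2; tauto)
  rw [hcB, hfil] at hx
  obtain ⟨hn₁, hn₂⟩ := key _ rfl hx
  rw [nb_single p (by norm_num) (by omega)] at hn₁ hn₂
  -- `V_{4 p^j}` is in both socles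
  have hc4 : (cf (Sy.{u, u, w} ι p) (Rr ρ ψ)).count (4 * p ^ j) = 1 := by
    rw [hcf, Multiset.count_cons_of_ne hB4.symm, Multiset.count_cons_self, Multiset.count_eq_zero_of_notMem]
    simp only [Multiset.mem_cons, Multiset.mem_singleton]
    have h1 := h48 m₁
    have h2 := h48 m₂
    (clear * - h1 h2; tauto)
  have hE : ∀ d ∈ cf (Sy.{u, u, w} ι p) (Rr ρ ψ), d ≠ 4 * p ^ j → Ext0 (Sy.{u, u, w} ι p) d (4 * p ^ j) ∧ Ext0 (Sy.{u, u, w} ι p) (4 * p ^ j) d := by
    have h8 : ∀ m < a, Ext0 (Sy.{u, u, w} ι p) (8 * p ^ m) (4 * p ^ j) ∧ Ext0 (Sy.{u, u, w} ι p) (4 * p ^ j) (8 * p ^ m) := by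
      intro m hm
      by_cases hmj : m = j
      · subst hmj
        exact ⟨ext0_same ι p f.card (by omega) (by omega) (by omega) hm (by omega),
          ext0_same ι p f.card (by omega) (by omega) (by omega) hm (by omega)⟩
      · exact ⟨ext0_diff ι p f.card (by omega) (by omega) (by omega) hmj hm hj (by omega) (by omega),
          ext0_diff ι p f.card (by omega) (by omega) (by omega) (Ne.symm hmj) hj hm (by omega) (by omega)⟩
    intro d hd hne
    have hlB : B < p ^ a := cf_lt ι p f.card (Rr ρ ψ) B (by rw [hcf]; exact Multiset.mem_cons_self _ _)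
    rcases hmem d hd with h | h | h | h
    · rw [h]
      have h9 : ∀ l, B / p ^ l % p + 4 * p ^ j / p ^ l % p < p - 2 := by
        intro l
        rw [hB, dg_pair p hp.one_lt h12, dg_single hp.one_lt (show 4 < p by omega)]
        split_ifs <;> omega
      exact ⟨ext0_digits ι p f.card (by omega) ha (single_lt p (by omega) hj) hlB fun l _ => h9 l,
        ext0_digits ι p f.card (by omega) ha hlB (single_lt p (by omega) hj) fun l _ => by rw [add_comm]; exact h9 l⟩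
    · exact absurd h hne
    · rw [h]
      exact h8 m₁ hm₁
    · rw [h]
      exact h8 m₂ hm₂
  have s4 : InSoc ι p (Rr ρ ψ) (4 * p ^ j) := by
    obtain ⟨X, Y, hX, hY, -, hV, -⟩ := split_one ι p (Rr ρ ψ) hc4 hE
    exact ⟨X, hX, hV⟩
  have s4' : InSoc ι p (Rr ρ' ψ) (4 * p ^ j) := by
    obtain ⟨X, Y, hX, hY, -, hV, -⟩ := split_one ι p (Rr ρ' ψ) (b := 4 * p ^ j) (by rw [f.cf_eq ι]; exact hc4)
      (by rw [f.cf_eq ι]; exact hE)
    exact ⟨X, hX, hV⟩
  have s8' := f.soc_eight ι (by omega) ha nts nts' hj s4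
  have s8 := f.swap.soc_eight ι (by omega) ha nts' nts hj s4'
  -- the positions
  have h8m := s8.mem_cf
  have hj12 : j = m₁ ∨ j = m₂ := by
    rcases hmem _ h8m with h | h | h | h
    · exact absurd h.symm (hB8 j)
    · have := t8 j
      rw [h, t4] at this
      simp at this
    · exact Or.inl (single_inj hp.one_lt (by norm_num) h)
    · exact Or.inr (single_inj hp.one_lt (by norm_num) h)
  have hmm : m₁ = m₂ := by
    by_contra hne
    -- `V_{8 p^j}` has multiplicity one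
    have h88 : 8 * p ^ m₁ ≠ 8 * p ^ m₂ := fun h => hne (single_inj hp.one_lt (by norm_num) h)
    have hc8 : (cf (Sy.{u, u, w} ι p) (Rr ρ ψ)).count (8 * p ^ j) = 1 := by
      rw [hcf, Multiset.count_cons_of_ne (hB8 j).symm, Multiset.count_cons_of_ne (fun h => by
        have := t8 j
        rw [h, t4] at this
        simp at this)]
      rcases hj12 with rfl | rfl
      · rw [Multiset.count_cons_self, Multiset.count_singleton, if_neg h88]
      · rw [Multiset.count_cons_of_ne h88.symm, Multiset.count_singleton_self]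
    obtain ⟨X, hX, hV⟩ := s8
    obtain ⟨Kc, hK, hXK, hbK⟩ := exists_compl_of_both ι p f.dul hX hV s8' hc8
    obtain ⟨P', D', -⟩ := f.dul.quot hX
    have q1 : ¬ InSoc ι p (quotRep (Rr ρ ψ) X hX) B := fun h => nB
      ((inSoc_quot ι p hX hK hXK h).iso ι p Kc.subtype (fun _ _ => rfl) Kc.injective_subtype)
    have q2 : ¬ InSoc ι p (subRep (Rr ρ' ψ) (orth (tfB k) X) (f.dul.orth_inv hX)) B := fun h => nB'
      (h.iso ι p (orth (tfB k) X).subtype (fun _ _ => rfl) (orth (tfB k) X).injective_subtype)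
    have hadd := cf_add (Sy.{u, u, w} ι p) (Rr ρ ψ) X hX
    rw [cf_irr (Sy.{u, u, w} ι p) hV, Multiset.singleton_add] at hadd
    -- the factors of the quotient
    obtain ⟨m', hm', hqcf⟩ : ∃ m', m' < a ∧ cf (Sy.{u, u, w} ι p) (quotRep (Rr ρ ψ) X hX) = B ::ₘ (4 * p ^ j) ::ₘ {8 * p ^ m'} := by
      rcases hj12 with rfl | rfl
      · refine ⟨m₂, hm₂, ?_⟩
        rw [hcf] at hadd
        have h1 : B ::ₘ (4 * p ^ j) ::ₘ (8 * p ^ j) ::ₘ {8 * p ^ m₂} = 8 * p ^ j ::ₘ (B ::ₘ (4 * p ^ j) ::ₘ {8 * p ^ m₂}) := by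
          rw [Multiset.cons_swap (8 * p ^ j) B, Multiset.cons_swap (8 * p ^ j) (4 * p ^ j)]
        rw [h1, Multiset.cons_inj_right] at hadd
        exact hadd.symm
      · refine ⟨m₁, hm₁, ?_⟩
        rw [hcf] at hadd
        have h1 : B ::ₘ (4 * p ^ j) ::ₘ (8 * p ^ m₁) ::ₘ {8 * p ^ j} = 8 * p ^ j ::ₘ (B ::ₘ (4 * p ^ j) ::ₘ {8 * p ^ m₁}) := by
          rw [Multiset.cons_swap (8 * p ^ j) B, Multiset.cons_swap (8 * p ^ j) (4 * p ^ j)]
          congr 2
          exact Multiset.cons_swap _ _ _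
        rw [h1, Multiset.cons_inj_right] at hadd
        exact hadd.symm
    have hx' := extp_11 ι p f.card D' (by omega) ha hi₁ hi₂ h12 q1 q2 (by rw [hqcf]; exact Multiset.mem_cons_self _ _)
      (fun d hd => hsm d (Multiset.mem_of_le (cf_quot_le (Sy.{u, u, w} ι p) _ X hX) hd))
    have hfil' : (cf (Sy.{u, u, w} ι p) (quotRep (Rr ρ ψ) X hX)).filter (fun d => tyl p d = [p - 3]) = {8 * p ^ m'} := by
      rw [hqcf, Multiset.filter_cons_of_neg _ (by rw [tB]; simp), Multiset.filter_cons_of_neg _ (by rw [t4, hp11]; simp),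
        Multiset.filter_eq_self.2]
      intro d hd
      rw [Multiset.mem_singleton.1 hd, t8, hp11]
    rw [hfil', Multiset.map_singleton, Multiset.count_singleton, hqcf, Multiset.count_cons_self] at hx'
    split_ifs at hx' <;> omega
  subst hmm
  have hjm : j = m₁ := by (clear * - hj12; tauto)
  subst hjm
  refine ⟨j, hj, ?_, s8, s8'⟩
  rw [hcf, ← hn₁]

theorem Fra.s11_e (f : Fra p a ψ ρ ρ') (hp11 : p = 11) (ha : 2 ≤ a) (nts : Nts ψ ρ) (nts' : Nts ψ ρ')
    {m : ℕ} (hm : m < a) (hcf : cf (Sy.{u, u, w} ι p) (Rr ρ ψ) =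
      (p ^ m + p ^ ((m + 1) % a)) ::ₘ (4 * p ^ m) ::ₘ (8 * p ^ m) ::ₘ {8 * p ^ m})
    (s8 : InSoc ι p (Rr ρ ψ) (8 * p ^ m)) : S11 ι (p := p) (Rr ρ ψ) m {p ^ m + p ^ ((m + 1) % a)} := by
  have hp : p.Prime := Fact.out
  have h12 := succ_mod_ne ha hm
  have hm' : (m + 1) % a < a := Nat.mod_lt _ (by omega)
  obtain ⟨B, hB⟩ : ∃ B, B = p ^ m + p ^ ((m + 1) % a) := ⟨_, rfl⟩
  rw [← hB] at hcf ⊢
  have tB : tyl p B = [1, 1] := by
    have h := tyl_pair (p := p) (n := 1) (m := 1) (by norm_num) (by omega) (by norm_num) (by omega) h12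
    rwa [one_mul, one_mul, ← hB] at h
  have t4 : tyl p (4 * p ^ m) = [4] := tyl_single (by norm_num) (by omega) m
  have t8 : tyl p (8 * p ^ m) = [8] := tyl_single (by norm_num) (by omega) m
  have hB4 : B ≠ 4 * p ^ m := fun h => by rw [h, t4] at tB; simp at tB
  have hB8 : B ≠ 8 * p ^ m := fun h => by rw [h, t8] at tB; simp at tB
  have h48 : 4 * p ^ m ≠ 8 * p ^ m := fun h => by rw [h, t8] at t4; simp at t4
  have nB' : ¬ InSoc ι p (Rr ρ' ψ) B := by
    rw [hB]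
    exact not_inSoc_pair f.swap (by omega) nts' nts h12 hm hm'
  have hmem : ∀ d ∈ cf (Sy.{u, u, w} ι p) (Rr ρ ψ), d = B ∨ d = 4 * p ^ m ∨ d = 8 * p ^ m ∨ d = 8 * p ^ m := by
    intro d hd
    rw [hcf] at hd
    simpa only [Multiset.mem_cons, Multiset.mem_singleton] using hd
  have hlB : B < p ^ a := cf_lt ι p f.card (Rr ρ ψ) B (by rw [hcf]; exact Multiset.mem_cons_self _ _)
  have h9 : ∀ l, B / p ^ l % p + 4 * p ^ m / p ^ l % p < p - 2 := by
    intro l
    rw [hB, dg_pair p hp.one_lt h12, dg_single hp.one_lt (show 4 < p by omega)]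
    split_ifs <;> omega
  have e1 : Ext0 (Sy.{u, u, w} ι p) B (4 * p ^ m) :=
    ext0_digits ι p f.card (by omega) ha (single_lt p (by omega) hm) hlB fun l _ => h9 l
  have e2 : Ext0 (Sy.{u, u, w} ι p) (4 * p ^ m) B :=
    ext0_digits ι p f.card (by omega) ha hlB (single_lt p (by omega) hm) fun l _ => by rw [add_comm]; exact h9 l
  have e3 : Ext0 (Sy.{u, u, w} ι p) (8 * p ^ m) (4 * p ^ m) :=
    ext0_same ι p f.card (by omega) (by omega) (by omega) hm (by omega)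
  have e4 : Ext0 (Sy.{u, u, w} ι p) (4 * p ^ m) (8 * p ^ m) :=
    ext0_same ι p f.card (by omega) (by omega) (by omega) hm (by omega)
  refine ⟨s8, fun X₁ X₂ hX₁ hX₂ h1 h2 => ?_, ?_⟩
  · refine uniq_of_split ι p f.dul nB' hB8 ?_ ?_ ?_ hX₁ hX₂ h1 h2
    · rw [hcf, Multiset.count_cons_self, Multiset.count_eq_zero_of_notMem]
      simp only [Multiset.mem_cons, Multiset.mem_singleton]
      (clear * - hB4 hB8; tauto)
    · rw [hcf, Multiset.count_cons_of_ne hB8.symm, Multiset.count_cons_of_ne h48.symm, Multiset.count_cons_self,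
        Multiset.count_singleton_self]
    · intro d hd h3 h4
      rcases hmem d hd with h | h | h | h
      · exact absurd h h3
      · rw [h]
        exact ⟨e2, e1⟩
      · exact absurd h h4
      · exact absurd h h4
  · have hc4 : (cf (Sy.{u, u, w} ι p) (Rr ρ ψ)).count (4 * p ^ m) = 1 := by
      rw [hcf, Multiset.count_cons_of_ne hB4.symm, Multiset.count_cons_self, Multiset.count_eq_zero_of_notMem]
      simp only [Multiset.mem_cons, Multiset.mem_singleton]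
      (clear * - h48; tauto)
    obtain ⟨X, Y, hX, hY, hc, hV, hYcf⟩ := split_one ι p (Rr ρ ψ) hc4 fun d hd h3 => by
      rcases hmem d hd with h | h | h | h
      · rw [h]
        exact ⟨e1, e2⟩
      · exact absurd h h3
      · rw [h]
        exact ⟨e3, e4⟩
      · rw [h]
        exact ⟨e3, e4⟩
    refine ⟨X, Y, hX, hY, hc, hV, ?_⟩
    rw [hYcf, hcf, Multiset.cons_swap, Multiset.erase_cons_head]
    show _ = (8 * p ^ m) ::ₘ {8 * p ^ m} + {B}
    rw [← Multiset.singleton_add B, add_comm]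

/-- **the pattern `[1,1], [4], [8], [8]`** -/
theorem Fra.e11 (f : Fra p a ψ ρ ρ') (hp11 : p = 11) (ha : 2 ≤ a) (nts : Nts ψ ρ) (nts' : Nts ψ ρ')
    {W : List (List ℕ)} (hW : W = [[1, 1], [4], [8], [8]])
    (hw : (W : Multiset (List ℕ)) = (cf (Sy.{u, u, w} ι p) (Rr ρ ψ)).map (tyl p)) :
    ∃ m < a, cf (Sy.{u, u, w} ι p) (Rr ρ ψ) =
      (p ^ m + p ^ ((m + 1) % a)) ::ₘ (4 * p ^ m) ::ₘ (8 * p ^ m) ::ₘ {8 * p ^ m} ∧
      S11 ι (p := p) (Rr ρ ψ) m {p ^ m + p ^ ((m + 1) % a)} ∧ S11 ι (p := p) (Rr ρ' ψ) m {p ^ m + p ^ ((m + 1) % a)} := by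
  obtain ⟨m, hm, hcf, h1, h2⟩ := f.e11_cf ι hp11 ha nts nts' hW hw
  exact ⟨m, hm, hcf, f.s11_e ι hp11 ha nts nts' hm hcf h1, f.swap.s11_e ι hp11 ha nts' nts hm (by rw [f.cf_eq ι]; exact hcf) h2⟩

theorem Fra.s11_q (f : Fra p a ψ ρ ρ') (hp11 : p = 11) (ha : a = 1) (nts : Nts ψ ρ) (nts' : Nts ψ ρ')
    (hcf : cf (Sy.{u, u, w} ι p) (Rr ρ ψ) = 0 ::ₘ (2 * p ^ 0) ::ₘ (4 * p ^ 0) ::ₘ (8 * p ^ 0) ::ₘ {8 * p ^ 0}) :
    S11 ι (p := p) (Rr ρ ψ) 0 {0, 2 * p ^ 0} := by
  have hp : p.Prime := Fact.out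
  have hmem : ∀ d ∈ cf (Sy.{u, u, w} ι p) (Rr ρ ψ), d = 0 ∨ d = 2 * p ^ 0 ∨ d = 4 * p ^ 0 ∨ d = 8 * p ^ 0 ∨ d = 8 * p ^ 0 := by
    intro d hd
    rw [hcf] at hd
    simpa only [Multiset.mem_cons, Multiset.mem_singleton] using hd
  have n0' : ¬ InSoc ι p (Rr ρ' ψ) 0 := fun h => f.swap.soc_ne_zero ι h rfl
  have n0 : ¬ InSoc ι p (Rr ρ ψ) 0 := fun h => f.soc_ne_zero ι h rfl
  have n2 : ¬ InSoc ι p (Rr ρ ψ) (2 * p ^ 0) := not_inSoc_two f (by omega) (by rw [f.card, ha, hp11]; norm_num) nts nts' 0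
  have es : ∀ {n m : ℕ}, n + m < 8 → Ext0 (Sy.{u, u, w} ι p) (n * p ^ 0) (m * p ^ 0) := fun {n m} h =>
    ext0_same ι p f.card (by omega) (by omega) (by omega) (by omega) (Or.inr (by omega))
  have e84 : Ext0 (Sy.{u, u, w} ι p) (8 * p ^ 0) (4 * p ^ 0) := by
    rw [pow_zero, mul_one, mul_one]
    refine ext0_one ι p f.card ha ?_ ?_ ?_
    · subst hp11
      decide
    · subst hp11
      decide
    · intro j h1 h2
      subst hp11
      have : j ≤ 10 := h2
      interval_cases j <;> decide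
  have e48 := ext0_symm ι p e84
  have ez : ∀ {n : ℕ}, n < 8 → Ext0 (Sy.{u, u, w} ι p) (n * p ^ 0) 0 ∧ Ext0 (Sy.{u, u, w} ι p) 0 (n * p ^ 0) := by
    intro n hn
    have h1 := es (n := n) (m := 0) (by omega)
    have h2 := es (n := 0) (m := n) (by omega)
    rw [zero_mul] at h1 h2
    exact ⟨h1, h2⟩
  have hpow : p ^ 0 = 1 := pow_zero p
  have hc4 : (cf (Sy.{u, u, w} ι p) (Rr ρ ψ)).count (4 * p ^ 0) = 1 := by
    rw [hcf, hpow]
    decide
  obtain ⟨X, Y, hX, hY, hc, hV, hYcf⟩ := split_one ι p (Rr ρ ψ) hc4 fun d hd h3 => by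
    rcases hmem d hd with h | h | h | h | h
    · rw [h]
      exact ⟨(ez (by norm_num)).2, (ez (by norm_num)).1⟩
    · rw [h]
      exact ⟨es (by norm_num), es (by norm_num)⟩
    · exact absurd h h3
    · rw [h]
      exact ⟨e84, e48⟩
    · rw [h]
      exact ⟨e84, e48⟩
  have hYcf' : cf (Sy.{u, u, w} ι p) (subRep (Rr ρ ψ) Y hY) = {8 * p ^ 0, 8 * p ^ 0} + {0, 2 * p ^ 0} := by
    rw [hYcf, hcf, hpow]
    decide
  refine ⟨?_, fun X₁ X₂ hX₁ hX₂ h1 h2 => ?_, X, Y, hX, hY, hc, hV, hYcf'⟩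
  · have hY0 : Y ≠ ⊥ := by
      rintro rfl
      have h8 : cf (Sy.{u, u, w} ι p) (subRep (Rr ρ ψ) ⊥ hY) = 0 := cf_zero _ _
      rw [h8, hpow] at hYcf'
      revert hYcf'
      decide
    obtain ⟨c, hc1, hc2⟩ := exists_inSoc_sub ι p hY hY0
    have h1 := hc1.mem_cf
    rw [hYcf'] at h1
    simp only [Multiset.insert_eq_cons, Multiset.mem_add, Multiset.mem_cons, Multiset.mem_singleton] at h1
    rcases h1 with (h1 | h1) | h1 | h1
    · rwa [h1] at hc2
    · rwa [h1] at hc2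
    · rw [h1] at hc2
      exact absurd hc2 n0
    · rw [h1] at hc2
      exact absurd hc2 n2
  · refine uniq_of_split ι p f.dul n0' ?_ ?_ ?_ ?_ hX₁ hX₂ h1 h2
    · rw [hpow]
      decide
    · rw [hcf, hpow]
      decide
    · rw [hcf, hpow]
      decide
    · intro d hd h3 h4
      rcases hmem d hd with h | h | h | h | h
      · exact absurd h h3
      · rw [h]
        exact ez (by norm_num)
      · rw [h]
        exact ez (by norm_num)
      · exact absurd h h4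
      · exact absurd h h4

/-- **the pattern `[], [2], [4], [8], [8]`**, `q = 11` -/
theorem Fra.q11 (f : Fra p a ψ ρ ρ') (hp11 : p = 11) (ha : a = 1) (nts : Nts ψ ρ) (nts' : Nts ψ ρ')
    {W : List (List ℕ)} (hW : W = [[], [2], [4], [8], [8]])
    (hw : (W : Multiset (List ℕ)) = (cf (Sy.{u, u, w} ι p) (Rr ρ ψ)).map (tyl p)) :
    cf (Sy.{u, u, w} ι p) (Rr ρ ψ) = 0 ::ₘ (2 * p ^ 0) ::ₘ (4 * p ^ 0) ::ₘ (8 * p ^ 0) ::ₘ {8 * p ^ 0} ∧
      S11 ι (p := p) (Rr ρ ψ) 0 {0, 2 * p ^ 0} ∧ S11 ι (p := p) (Rr ρ' ψ) 0 {0, 2 * p ^ 0} := by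
  have hlt := cf_lt ι p f.card (Rr ρ ψ)
  have e : (W : Multiset (List ℕ)) = [] ::ₘ [2] ::ₘ [4] ::ₘ [8] ::ₘ [8] ::ₘ 0 := by
    rw [hW]
    rfl
  rw [e] at hw
  obtain ⟨b₀, s₀, hs₀, ht₀, hw⟩ := map_cons_inv _ hw
  obtain ⟨b₁, s₁, hs₁, ht₁, hw⟩ := map_cons_inv _ hw
  obtain ⟨b₂, s₂, hs₂, ht₂, hw⟩ := map_cons_inv _ hw
  obtain ⟨b₃, s₃, hs₃, ht₃, hw⟩ := map_cons_inv _ hw
  obtain ⟨b₄, s₄, hs₄, ht₄, hw⟩ := map_cons_inv _ hw
  have hs5 : s₄ = 0 := Multiset.map_eq_zero.1 hw.symm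
  subst hs5 hs₄ hs₃ hs₂ hs₁
  have key : ∀ b n, 0 < n → b ∈ cf (Sy.{u, u, w} ι p) (Rr ρ ψ) → tyl p b = [n] → b = n * p ^ 0 := by
    intro b n hn hb ht
    obtain ⟨i, hi, rfl⟩ := tyl_single_inv ht (hlt b hb) hn
    have hi0 : i = 0 := by omega
    rw [hi0]
  have k1 := key b₁ 2 (by norm_num) (by rw [hs₀]; simp) ht₁
  have k2 := key b₂ 4 (by norm_num) (by rw [hs₀]; simp) ht₂
  have k3 := key b₃ 8 (by norm_num) (by rw [hs₀]; simp) ht₃
  have k4 := key b₄ 8 (by norm_num) (by rw [hs₀]; simp) ht₄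
  have k0 := tyl_eq_nil.1 ht₀
  rw [k0, k1, k2, k3, k4] at hs₀
  have hs₀' : cf (Sy.{u, u, w} ι p) (Rr ρ ψ) = 0 ::ₘ (2 * p ^ 0) ::ₘ (4 * p ^ 0) ::ₘ (8 * p ^ 0) ::ₘ {8 * p ^ 0} := hs₀
  exact ⟨hs₀', f.s11_q ι hp11 ha nts nts' hs₀', f.swap.s11_q ι hp11 ha nts' nts (by rw [f.cf_eq ι]; exact hs₀')⟩

end Frame

end Cfsg.Agent.R2.H28.SL2
end

-- part: R2/H14/E11/FWt
section
/-!
# S5749, S5750, box E11: the facts on the module `V` (helper14)

* `tau ι m` : the embedding `t ↦ ι t ^ 11 ^ m`;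
* `wt_of_cf` : the weights (`a ≥ 2`);
* `no10_of_cf` : no highest weight vectors of weight 10 (`a ≥ 2`);
* `top8_of` : the highest weight vectors of weight 8.
-/

set_option autoImplicit false
set_option linter.unusedSectionVars false

namespace Cfsg.Agent.R2.H14.E11X

open Module Matrix Cfsg.Agent.H943.SL2Rel Cfsg.Agent.H943.SL2Mod Cfsg.Agent.H943.RepAdd
open Cfsg.Agent.R2.H28.SL2
open Cfsg.Agent.R2.H14.E11 (Wt Uf Zf ZZ Ms C4 Q_one Q_two a_pos exists_zz ms_of_zz lift10)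

universe u v w

section num

theorem cop {a : ℕ} (ha : 1 ≤ a) (m : ℕ) : Nat.gcd (11 ^ a - 1) (11 ^ m) = 1 := by
  apply Nat.Coprime.pow_right
  rw [Nat.coprime_comm, Nat.Prime.coprime_iff_not_dvd (by norm_num)]
  intro h
  have h1 : 11 ∣ 11 ^ a := dvd_pow_self 11 (by omega)
  have h2 : 0 < 11 ^ a := by positivity
  have h3 := Nat.dvd_sub h1 h
  rw [show 11 ^ a - (11 ^ a - 1) = 1 by (clear * - h2; omega)] at h3
  omega

theorem cancel {a : ℕ} (ha : 1 ≤ a) {m x y : ℕ} (h : x * 11 ^ m ≡ y * 11 ^ m [MOD 11 ^ a - 1]) :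
    x ≡ y [MOD 11 ^ a - 1] := Nat.ModEq.cancel_right_of_coprime (cop ha m) h

theorem pow_mod_succ {a m : ℕ} (hm : m < a) : 11 ^ ((m + 1) % a) ≡ 11 * 11 ^ m [MOD 11 ^ a - 1] := by
  rcases Nat.lt_or_ge (m + 1) a with h | h
  · rw [Nat.mod_eq_of_lt h, pow_succ, mul_comm]
  · have h1 : m + 1 = a := by omega
    rw [h1, Nat.mod_self, pow_zero, mul_comm, ← pow_succ, h1]
    have h2 : 0 < 11 ^ a := by positivity
    refine (Nat.modEq_iff_dvd' (by omega)).2 (dvd_refl _)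

end num

variable {k : Type u} [Field k] [DecidableEq k] [CharP k 11] [Fact (Nat.Prime 11)]

theorem mem_Bf_pr (i : ℕ) : ∀ {j μ : ℕ}, i < j → μ ∈ Bf k (11 ^ i + 11 ^ j) →
    ∃ s ≤ 1, ∃ s' ≤ 1, μ = s * 11 ^ i + s' * 11 ^ j := by
  induction i with
  | zero =>
    intro j μ hij h
    obtain ⟨j', rfl⟩ : ∃ j', j = j' + 1 := ⟨j - 1, by omega⟩
    have h1 : 11 ^ 0 + 11 ^ (j' + 1) = 11 * 11 ^ j' + 1 := by rw [pow_succ]; ring
    rw [h1, ← Nat.div_add_mod μ 11, mem_Bf_mul k 11 (by norm_num) (Nat.mod_lt _ (by norm_num))] at h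
    obtain ⟨h2, h3⟩ := h
    rw [← one_mul (11 ^ j'), mem_Bf_single 11 (by norm_num)] at h3
    obtain ⟨s', hs', h4⟩ := h3
    refine ⟨μ % 11, h2, s', hs', ?_⟩
    conv_lhs => rw [← Nat.div_add_mod μ 11, h4]
    rw [pow_succ]
    ring
  | succ i ih =>
    intro j μ hij h
    obtain ⟨j', rfl⟩ : ∃ j', j = j' + 1 := ⟨j - 1, by omega⟩
    have h1 : 11 ^ (i + 1) + 11 ^ (j' + 1) = 11 * (11 ^ i + 11 ^ j') + 0 := by rw [pow_succ, pow_succ]; ring
    rw [h1, ← Nat.div_add_mod μ 11, mem_Bf_mul k 11 (by norm_num) (Nat.mod_lt _ (by norm_num))] at h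
    obtain ⟨h2, h3⟩ := h
    obtain ⟨s, hs, s', hs', h4⟩ := ih (by omega) h3
    refine ⟨s, hs, s', hs', ?_⟩
    conv_lhs => rw [← Nat.div_add_mod μ 11, h4, Nat.le_zero.1 h2]
    rw [pow_succ, pow_succ]
    ring

theorem mem_Bf_pr' {i j μ : ℕ} (hij : i ≠ j) (h : μ ∈ Bf k (11 ^ i + 11 ^ j)) :
    ∃ s ≤ 1, ∃ s' ≤ 1, μ = s * 11 ^ i + s' * 11 ^ j := by
  rcases Nat.lt_or_ge i j with h1 | h1
  · exact mem_Bf_pr i h1 h
  · rw [add_comm] at h
    obtain ⟨s, hs, s', hs', h2⟩ := mem_Bf_pr j (by omega) h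
    exact ⟨s', hs', s, hs, by rw [h2, add_comm]⟩

variable {K : Type w} [Field K] [Fintype K] [DecidableEq K] [CharP K 11] (ι : K →+* k)

/-- the embedding `t ↦ ι t ^ 11 ^ m` -/
noncomputable def tau (m : ℕ) : K →+* k := ι.comp (iterateFrobenius K 11 m)

theorem tau_apply (m : ℕ) (t : K) : tau ι m t = ι t ^ 11 ^ m := by
  show ι (iterateFrobenius K 11 m t) = _
  rw [iterateFrobenius_def, map_pow]

variable {a : ℕ} (hK : Fintype.card K = 11 ^ a)
variable {V : Type v} [AddCommGroup V] [Module k V] {ρ : Representation k (_root_.Matrix.SpecialLinearGroup (Fin 2) K) V}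

theorem wt_iff {m e : ℕ} {x : V} : Wt (tau ι m) ρ e x ↔ ∀ c : Kˣ, ρ (h c) x = ι c ^ (e * 11 ^ m) • x := by
  unfold Wt
  simp only [tau_apply, ← pow_mul, mul_comm (11 ^ m) e]

variable [IsAlgClosed k] [FiniteDimensional k V]

include hK

/-- **the weights** -/
theorem wt_of_cf (ha : 2 ≤ a) {m : ℕ} (hm : m < a)
    (hcf : cf (Sy.{u, v, w} ι 11) ρ = (11 ^ m + 11 ^ ((m + 1) % a)) ::ₘ (4 * 11 ^ m) ::ₘ (8 * 11 ^ m) ::ₘ {8 * 11 ^ m})
    (e : ℕ) (x : V) (hx : x ≠ 0) (hw : Wt (tau ι m) ρ e x) :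
    ∃ j ≤ 12, (e + 12) % (Fintype.card K - 1) = (2 * j) % (Fintype.card K - 1) := by
  obtain ⟨b, hb, μ, hμ, hd, he⟩ := wt_cf ι 11 hK hx ((wt_iff ι).1 hw)
  have hB : μ ∈ Bf k b := by
    rw [mem_Bf]
    exact ⟨hμ, fun h0 => hd ((CharP.cast_eq_zero_iff k 11 _).1 h0)⟩
  rw [hcf] at hb
  rw [hK] at he ⊢
  have hne : m ≠ (m + 1) % a := by
    rcases Nat.lt_or_ge (m + 1) a with h | h
    · rw [Nat.mod_eq_of_lt h]
      omega
    · have h1 : m + 1 = a := by omega
      rw [h1, Nat.mod_self]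
      omega
  simp only [Multiset.mem_cons, Multiset.mem_singleton, or_self] at hb
  rcases hb with rfl | rfl | rfl
  · obtain ⟨s, hs, s', hs', rfl⟩ := mem_Bf_pr' hne hB
    have h1 : 2 * (s + 11 * s') * 11 ^ m ≡ (12 + e) * 11 ^ m [MOD 11 ^ a - 1] := by
      have h2 := pow_mod_succ hm
      calc 2 * (s + 11 * s') * 11 ^ m = 2 * (s * 11 ^ m + s' * (11 * 11 ^ m)) := by ring
        _ ≡ 2 * (s * 11 ^ m + s' * 11 ^ ((m + 1) % a)) [MOD 11 ^ a - 1] :=
          Nat.ModEq.mul_left _ (Nat.ModEq.add_left _ (Nat.ModEq.mul_left _ h2.symm))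
        _ ≡ 11 ^ m + 11 ^ ((m + 1) % a) + e * 11 ^ m [MOD 11 ^ a - 1] := he
        _ ≡ 11 ^ m + 11 * 11 ^ m + e * 11 ^ m [MOD 11 ^ a - 1] := Nat.ModEq.add_right _ (Nat.ModEq.add_left _ h2)
        _ = (12 + e) * 11 ^ m := by ring
    refine ⟨s + 11 * s', by omega, ?_⟩
    rw [add_comm e 12]
    exact (cancel (by omega) h1).symm
  · obtain ⟨s, hs, rfl⟩ := (mem_Bf_single 11 (by norm_num) m).1 hB
    have h1 : 2 * s * 11 ^ m ≡ (4 + e) * 11 ^ m [MOD 11 ^ a - 1] := by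
      rw [mul_assoc, add_mul]
      exact he
    refine ⟨s + 4, by omega, ?_⟩
    have h2 := (Nat.ModEq.add_right 8 (cancel (by omega) h1)).symm
    rw [show 4 + e + 8 = e + 12 by ring, show 2 * s + 8 = 2 * (s + 4) by ring] at h2
    exact h2
  · obtain ⟨s, hs, rfl⟩ := (mem_Bf_single 11 (by norm_num) m).1 hB
    have h1 : 2 * s * 11 ^ m ≡ (8 + e) * 11 ^ m [MOD 11 ^ a - 1] := by
      rw [mul_assoc, add_mul]
      exact he
    refine ⟨s + 2, by omega, ?_⟩
    have h2 := (Nat.ModEq.add_right 4 (cancel (by omega) h1)).symm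
    rw [show 8 + e + 4 = e + 12 by ring, show 2 * s + 4 = 2 * (s + 2) by ring] at h2
    exact h2

/-- **no highest weight vectors of weight 10** -/
theorem no10_of_cf (ha : 2 ≤ a) {m : ℕ} (hm : m < a)
    (hcf : cf (Sy.{u, v, w} ι 11) ρ = (11 ^ m + 11 ^ ((m + 1) % a)) ::ₘ (4 * 11 ^ m) ::ₘ (8 * 11 ^ m) ::ₘ {8 * 11 ^ m})
    (x : V) (hu : Uf ρ x) (hw : Wt (tau ι m) ρ 10 x) : x = 0 := by
  by_contra hx
  obtain ⟨b, hb, he⟩ := mem_cf_of_hw ι 11 hx hu ((wt_iff ι).1 hw)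
  rw [hcf] at hb
  rw [hK] at he
  have hQ := Q_two hK ha
  rw [hK] at hQ
  have key : ∀ y : ℕ, y < 13 → y ≠ 10 → b ≡ y * 11 ^ m [MOD 11 ^ a - 1] → False := by
    intro y hy hy10 h1
    have h2 : y * 11 ^ m ≡ 10 * 11 ^ m [MOD 11 ^ a - 1] := h1.symm.trans he
    have h3 := cancel (by omega) h2
    unfold Nat.ModEq at h3
    rw [Nat.mod_eq_of_lt (by omega), Nat.mod_eq_of_lt (by omega)] at h3
    exact hy10 h3
  simp only [Multiset.mem_cons, Multiset.mem_singleton, or_self] at hb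
  rcases hb with rfl | rfl | rfl
  · refine key 12 (by norm_num) (by norm_num) ?_
    calc 11 ^ m + 11 ^ ((m + 1) % a) ≡ 11 ^ m + 11 * 11 ^ m [MOD 11 ^ a - 1] := Nat.ModEq.add_left _ (pow_mod_succ hm)
      _ = 12 * 11 ^ m := by ring
  · exact key 4 (by norm_num) (by norm_num) rfl
  · exact key 8 (by norm_num) (by norm_num) rfl

/-- **the highest weight vectors of weight 8** -/
theorem top8_of {m : ℕ} (hm : m < a) {L : Submodule k V} (hL : ∀ g, ∀ x ∈ L, ρ g x ∈ L)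
    (hV : IsV ι 11 (subRep ρ L hL) (8 * 11 ^ m))
    (uq : ∀ (X : Submodule k V) (hX : ∀ g, ∀ x ∈ X, ρ g x ∈ X), IsV ι 11 (subRep ρ X hX) (8 * 11 ^ m) → X = L)
    (C : V) (y : ℕ → V) (hu : Uf ρ C) (hw : Wt (tau ι m) ρ 8 C)
    (ht : ∀ t, ρ (u t) (ρ Cfsg.Agent.H943.SL2Rel.w C) = ∑ j ∈ Finset.range 9, tau ι m t ^ j • y j) : C ∈ L := by
  rcases eq_or_ne C 0 with h0 | h0
  · rw [h0]
    exact L.zero_mem
  obtain ⟨Q, hQ⟩ : ∃ Q, Q = Fintype.card K - 1 := ⟨_, rfl⟩
  have hp0 : 0 < 11 ^ m := by positivity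
  have h8 : 8 * 11 ^ m < Q := by
    have h1 : 11 ^ (m + 1) ≤ 11 ^ a := Nat.pow_le_pow_right (by norm_num) (by omega)
    rw [pow_succ] at h1
    rw [hQ, hK]
    omega
  obtain ⟨μ, hμ0, hμu, -⟩ := hV.hw
  have hsum : ∀ n : ℕ, (∀ j ≤ 8, n ≠ 11 ^ m * j) → n ≤ Q → Dm ι ρ n (ρ Cfsg.Agent.H943.SL2Rel.w C) = 0 := by
    intro n hn hnQ
    rw [Dm_apply, neg_eq_zero]
    have h1 : ∀ t : K, ι t ^ (Fintype.card K - 1 - n) • ρ (u t) (ρ Cfsg.Agent.H943.SL2Rel.w C) =
        ∑ j ∈ Finset.range 9, (ι t ^ (Q - n + 11 ^ m * j)) • y j := by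
      intro t
      rw [ht, Finset.smul_sum]
      refine Finset.sum_congr rfl fun j _ => ?_
      rw [smul_smul, tau_apply, ← pow_mul, ← pow_add, hQ]
    rw [Finset.sum_congr rfl fun t _ => h1 t, Finset.sum_comm]
    refine Finset.sum_eq_zero fun j hj => ?_
    rw [Finset.mem_range] at hj
    have h2 : 11 ^ m * j ≤ 11 ^ m * 8 := Nat.mul_le_mul_left _ (by omega)
    rw [← Finset.sum_smul, Cfsg.Agent.R2.H28.SL2.psum ι (by omega), if_neg (by have := hn j (by omega); omega), zero_smul]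
  obtain ⟨f, hf, hfm⟩ := gen_hw ι 11 ρ hK hV hμ0 hμu hu ((wt_iff ι).1 hw) (by
    unfold cb
    rw [if_pos (by omega), zero_smul, SS_apply]
    have h1 : ∀ t : K, ρ (u t) (ρ Cfsg.Agent.H943.SL2Rel.w C) = ∑ j ∈ Finset.range 9, (ι t ^ (11 ^ m * j)) • y j := by
      intro t
      rw [ht]
      refine Finset.sum_congr rfl fun j _ => ?_
      rw [tau_apply, ← pow_mul]
    rw [Finset.sum_congr rfl fun t _ => h1 t, Finset.sum_comm]
    refine Finset.sum_eq_zero fun j hj => ?_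
    rw [Finset.mem_range] at hj
    have h2 : 11 ^ m * j ≤ 11 ^ m * 8 := Nat.mul_le_mul_left _ (by omega)
    rw [← Finset.sum_smul, Cfsg.Agent.R2.H28.SL2.psum ι (by omega), if_neg (by omega), zero_smul]) (by
    intro i hia _
    have hi : 11 ^ (i + 1) ≤ 11 ^ a := Nat.pow_le_pow_right (by norm_num) (by omega)
    rw [pow_succ] at hi
    have hi0 : 0 < 11 ^ i := by positivity
    rcases lt_trichotomy i m with h1 | h1 | h1
    · obtain ⟨r, rfl⟩ : ∃ r, m = i + (r + 1) := ⟨m - i - 1, by omega⟩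
      have h2 : en 11 (8 * 11 ^ (i + (r + 1))) i = 11 ^ i := by
        unfold en
        rw [pow_add, mul_left_comm, Nat.mul_div_cancel_left _ hi0, pow_succ, ← mul_assoc, Nat.mul_mod_left, zero_add, one_mul]
      rw [h2]
      refine hsum _ (fun j hj => ?_) (by omega)
      intro h3
      rcases Nat.eq_zero_or_pos j with h4 | h4
      · rw [h4, mul_zero] at h3
        omega
      · have h5 : 11 ^ (i + (r + 1)) ≤ 11 ^ (i + (r + 1)) * j := Nat.le_mul_of_pos_right _ h4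
        have h6 : 11 ^ i < 11 ^ (i + (r + 1)) := Nat.pow_lt_pow_right (by norm_num) (by omega)
        omega
    · subst h1
      have h2 : en 11 (8 * 11 ^ i) i = 9 * 11 ^ i := by
        unfold en
        rw [Nat.mul_div_cancel _ hi0]
      rw [h2]
      refine hsum _ (fun j hj => ?_) (by omega)
      intro h3
      have h4 : 11 ^ i * j ≤ 11 ^ i * 8 := Nat.mul_le_mul_left _ hj
      omega
    · have h2 : en 11 (8 * 11 ^ m) i = 11 ^ i := by
        unfold en
        have h3 : 8 * 11 ^ m < 11 ^ i := by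
          have h4 : 11 ^ (m + 1) ≤ 11 ^ i := Nat.pow_le_pow_right (by norm_num) (by omega)
          rw [pow_succ] at h4
          omega
        rw [Nat.div_eq_of_lt h3, Nat.zero_mod, zero_add, one_mul]
      rw [h2]
      refine hsum _ (fun j hj => ?_) (by omega)
      intro h3
      have h4 : 11 ^ m * j ≤ 11 ^ m * 8 := Nat.mul_le_mul_left _ hj
      have h5 : 11 ^ (m + 1) ≤ 11 ^ i := Nat.pow_le_pow_right (by norm_num) (by omega)
      rw [pow_succ] at h5
      omega)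
  have hf0 : f ≠ 0 := by
    rintro rfl
    exact h0 hfm.symm
  have hker : LinearMap.ker f = ⊥ := by
    rcases hV.irr.2 (LinearMap.ker f) (fun g x hx => by
      rw [LinearMap.mem_ker] at hx ⊢
      rw [hf, hx, map_zero]) with h | h
    · exact h
    · exact absurd (LinearMap.ker_eq_top.1 h) hf0
  have hinj := LinearMap.ker_eq_bot.1 hker
  have hX : ∀ g, ∀ x ∈ LinearMap.range f, ρ g x ∈ LinearMap.range f := by
    rintro g _ ⟨z, rfl⟩
    exact ⟨_, hf g z⟩
  have h2 := uq (LinearMap.range f) hX (IsV.iso ι 11 (LinearEquiv.ofInjective f hinj) (fun g x => Subtype.ext (hf g x)) hV)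
  rw [← h2]
  exact ⟨_, hfm⟩

end Cfsg.Agent.R2.H14.E11X
end

-- part: R2/H14/E11/FV
section
/-!
# S5749, S5750, box E11: `Ms` from the structure `S11` (helper14)

* `low_of_cf` : lowest weight vectors in the quotient `V / L`;
* `Hyp ι a m ρ` : the facts;
* `exists_ms` : the basis.
-/

set_option autoImplicit false
set_option linter.unusedSectionVars false

namespace Cfsg.Agent.R2.H14.E11X

open Module Matrix Cfsg.Agent.H943.SL2Rel Cfsg.Agent.H943.SL2Mod Cfsg.Agent.H943.RepAdd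
open Cfsg.Agent.R2.H28.SL2
open Cfsg.Agent.R2.H14.E11 (Wt Uf Zf ZZ Ms C4 Q_one Q_two a_pos exists_zz ms_of_zz lift10)
open Cfsg.Lie

universe u v w

section low

variable {k : Type u} [Field k] {K : Type w} [Field K] [Fintype K] [DecidableEq K] (τ : K →+* k)

theorem mk_Dm {V : Type*} [AddCommGroup V] [Module k V] (ρ : Representation k (_root_.Matrix.SpecialLinearGroup (Fin 2) K) V)
    {W : Submodule k V} (hW : ∀ g, ∀ x ∈ W, ρ g x ∈ W) (n : ℕ) (x : V) :
    Dm τ (quotRep ρ W hW) n (W.mkQ x) = W.mkQ (Dm τ ρ n x) := by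
  rw [Dm_apply, Dm_apply, map_neg, map_sum]
  refine congrArg Neg.neg (Finset.sum_congr rfl fun t _ => ?_)
  rw [quotRep_mk, map_smul]

variable [DecidableEq k] [CharP k 11] [CharP K 11] [Fact (Nat.Prime 11)]

theorem lift_low {V : Type*} [AddCommGroup V] [Module k V] (ρ : Representation k (_root_.Matrix.SpecialLinearGroup (Fin 2) K) V)
    {W : Submodule k V} (hW : ∀ g, ∀ x ∈ W, ρ g x ∈ W) {e n : ℕ} {y : V ⧸ W} (h1 : Wt τ (quotRep ρ W hW) e y)
    (h2 : Dm τ (quotRep ρ W hW) n y ≠ 0) : ∃ x, Wt τ ρ e x ∧ Dm τ ρ n x ∉ W := by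
  obtain ⟨x, rfl⟩ := W.mkQ_surjective y
  have h3 : ∀ c : Kˣ, ρ (h c) x - τ (c : K) ^ e • x ∈ W := by
    intro c
    rw [← Submodule.ker_mkQ W, LinearMap.mem_ker, map_sub, map_smul, ← quotRep_mk (hW := hW), h1 c, sub_self]
  obtain ⟨x₀, h4, h5⟩ := exists_tavg τ 11 ρ W h3
  refine ⟨x₀, h5, fun h6 => h2 ?_⟩
  have h7 : W.mkQ x = W.mkQ x₀ := by
    have h8 : W.mkQ (x₀ - x) = 0 := by
      rw [← LinearMap.mem_ker, Submodule.ker_mkQ]
      exact h4
    rw [map_sub, sub_eq_zero] at h8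
    exact h8.symm
  rw [h7, mk_Dm, ← LinearMap.mem_ker, Submodule.ker_mkQ]
  exact h6

end low

variable {k : Type u} [Field k] [DecidableEq k] [CharP k 11] [Fact (Nat.Prime 11)]
variable {K : Type w} [Field K] [Fintype K] [DecidableEq K] [CharP K 11] (ι : K →+* k)
variable {a : ℕ} (hK : Fintype.card K = 11 ^ a)

include hK in
theorem Q_ge : 10 ≤ Fintype.card K - 1 := by
  rcases Nat.lt_or_ge 1 a with h | h
  · have := Q_two hK h
    omega
  · have h1 := a_pos hK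
    have := Q_one hK (by omega)
    omega

include hK in
/-- lowest weight vectors of `V₈` -/
theorem low_irr {V : Type*} [AddCommGroup V] [Module k V] {ρ : Representation k (_root_.Matrix.SpecialLinearGroup (Fin 2) K) V} {m : ℕ}
    (hV : IsV ι 11 ρ (8 * 11 ^ m)) :
    ∃ x, Wt (tau ι m) ρ (Fintype.card K - 1 - 8) x ∧ Dm (tau ι m) ρ 8 x ≠ 0 := by
  obtain ⟨v, hv⟩ := hV.basS ι 11 (by norm_num)
  have hQ := Q_ge hK
  obtain ⟨Q, hQd⟩ : ∃ Q, Q = Fintype.card K - 1 := ⟨_, rfl⟩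
  refine ⟨v 0, fun c => ?_, ?_⟩
  · have h1 := hv.h 0 (by norm_num) c
    rw [h1, pow_zero, one_mul, Nat.sub_zero, ← tau_apply]
    congr 1
    rw [inv_pow]
    apply inv_eq_of_mul_eq_one_right
    rw [← pow_add, show 8 + (Fintype.card K - 1 - 8) = Fintype.card K - 1 by omega]
    exact powQ (tau ι m) c.ne_zero
  · have h1 : ∀ t : K, tau ι m t ^ (Fintype.card K - 1 - 8) • ρ (u t) (v 0) =
        ∑ j ∈ Finset.range 9, ((8 : ℕ).choose j : k) • (tau ι m t ^ (Q - 8 + j) • v j) := by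
      intro t
      rw [hv.u 0 (by norm_num), Finset.smul_sum]
      refine Finset.sum_congr rfl fun j _ => ?_
      rw [smul_smul, smul_smul, tau_apply, ← hQd, zero_add, Nat.sub_zero, pow_add]
      congr 1
      ring
    have h8 : Dm (tau ι m) ρ 8 (v 0) = v 8 := by
      rw [Dm_apply, Finset.sum_congr rfl fun t _ => h1 t, Finset.sum_comm, Finset.sum_eq_single 8]
      · rw [← Finset.smul_sum, ← Finset.sum_smul, Cfsg.Agent.R2.H28.SL2.psum (tau ι m) (by omega), if_pos (by omega),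
          Nat.choose_self, Nat.cast_one, one_smul, neg_smul, one_smul, neg_neg]
      · intro j hj hj8
        rw [Finset.mem_range] at hj
        rw [← Finset.smul_sum, ← Finset.sum_smul, Cfsg.Agent.R2.H28.SL2.psum (tau ι m) (by omega), if_neg (by omega),
          zero_smul, smul_zero]
      · intro h9
        exact absurd (Finset.mem_range.2 (by norm_num)) h9
    rw [h8]
    exact hv.li.ne_zero (⟨8, by norm_num⟩ : Fin 9)

variable [IsAlgClosed k]

include hK in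
theorem low_of_JHn {m : ℕ} (n : ℕ) : ∀ {V : Type v} [AddCommGroup V] [Module k V]
    {ρ : Representation k (_root_.Matrix.SpecialLinearGroup (Fin 2) K) V} {s : Multiset ℕ}, JHn (Sy.{u, v, w} ι 11) n ρ s →
    8 * 11 ^ m ∈ s → ∃ x, Wt (tau ι m) ρ (Fintype.card K - 1 - 8) x ∧ Dm (tau ι m) ρ 8 x ≠ 0 := by
  induction n with
  | zero =>
    intro V _ _ ρ s hs hm
    rw [hs.2] at hm
    exact absurd hm (Multiset.notMem_zero _)
  | succ n ih =>
    intro V _ _ ρ s hs hm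
    obtain ⟨W, hW, b, t, hb, rfl, ht⟩ := hs
    rcases Multiset.mem_cons.1 hm with h1 | h1
    · subst h1
      obtain ⟨x, h2, h3⟩ := low_irr ι hK (m := m) (show IsV ι 11 (subRep ρ W hW) (8 * 11 ^ m) from hb)
      refine ⟨x, fun c => congrArg Subtype.val (h2 c), fun h4 => h3 (Subtype.ext ?_)⟩
      rw [Submodule.coe_zero, ← h4, Dm_apply, Dm_apply, Submodule.coe_neg, Submodule.coe_sum]
      rfl
    · obtain ⟨y, h2, h3⟩ := ih ht h1
      obtain ⟨x, h4, h5⟩ := lift_low (tau ι m) ρ hW h2 h3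
      exact ⟨x, h4, fun h6 => h5 (by rw [h6]; exact W.zero_mem)⟩

/-- the facts -/
structure Hyp (ρ : Representation k (_root_.Matrix.SpecialLinearGroup (Fin 2) K) (I27 → k)) (a m : ℕ) : Prop where
  hm : m < a
  S : ∃ R, S11 ι (p := 11) ρ m R
  two : 2 ≤ a → cf (Sy.{u, u, w} ι 11) ρ =
    (11 ^ m + 11 ^ ((m + 1) % a)) ::ₘ (4 * 11 ^ m) ::ₘ (8 * 11 ^ m) ::ₘ {8 * 11 ^ m}
  one : a = 1 → cf (Sy.{u, u, w} ι 11) ρ = 0 ::ₘ (2 * 11 ^ 0) ::ₘ (4 * 11 ^ 0) ::ₘ (8 * 11 ^ 0) ::ₘ {8 * 11 ^ 0}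
  fix : ∀ x, (∀ g, ρ g x = x) → x = 0
  n0 : ¬ InSoc ι 11 ρ 0
  n2 : a = 1 → ¬ InSoc ι 11 ρ (2 * 11 ^ 0)
  nB : 2 ≤ a → ¬ InSoc ι 11 ρ (11 ^ m + 11 ^ ((m + 1) % a))

variable {ρ : Representation k (_root_.Matrix.SpecialLinearGroup (Fin 2) K) (I27 → k)} {m : ℕ}

theorem tau_zero : tau ι 0 = ι := by
  ext t
  rw [tau_apply, pow_zero, pow_one]

include hK in
theorem Hyp.no10 (H : Hyp ι ρ a m) (x : I27 → k) (hu : Uf ρ x) (hw : Wt (tau ι m) ρ 10 x) : x = 0 := by
  rcases Nat.lt_or_ge 1 a with h | h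
  · exact no10_of_cf ι hK h H.hm (H.two h) x hu hw
  · have ha := a_pos hK
    have ha1 : a = 1 := by omega
    have hm0 : m = 0 := by have := H.hm; omega
    subst hm0
    rw [tau_zero] at hw
    by_contra hx
    have hQ := Q_ge hK
    have hσ : IsV ι 11 (RB ι 11 hQ) 10 := ⟨hQ, LinearEquiv.refl k _, fun _ _ => rfl⟩
    obtain ⟨μ, hμ, hμu, -⟩ := hσ.hw
    obtain ⟨f, hf, hfm⟩ := lift10 ι hK hσ hμ hμu ρ hu hw (fun h => by omega) (fun i h1 h2 => by omega)
      (fun _ v hv => H.fix v hv)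
    have h1 := (inSoc_of_hom ι 11 hσ f hf (by
      rintro rfl
      exact hx hfm.symm)).mem_cf
    rw [H.one ha1] at h1
    revert h1
    decide

theorem Hyp.hom2 (H : Hyp ι ρ a m) (ha : a = 1) (hb : 2 ≤ Fintype.card K - 1) (φ : Vb (tau ι m) 2 →ₗ[k] (I27 → k))
    (hφ : ∀ g y, φ (RB (tau ι m) 11 hb g y) = ρ g (φ y)) : φ = 0 := by
  have hm0 : m = 0 := by have := H.hm; omega
  subst hm0
  have h1 : IsV (tau ι 0) 11 (RB (tau ι 0) 11 hb) 2 := ⟨hb, LinearEquiv.refl k _, fun _ _ => rfl⟩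
  by_contra h0
  have h2 := inSoc_of_hom (tau ι 0) 11 h1 φ hφ h0
  rw [tau_zero] at h2
  exact H.n2 ha h2

theorem Hyp.cf8 (H : Hyp ι ρ a m) {L : Submodule k (I27 → k)} (hL : ∀ g, ∀ x ∈ L, ρ g x ∈ L)
    (hV : IsV ι 11 (subRep ρ L hL) (8 * 11 ^ m)) : 8 * 11 ^ m ∈ cf (Sy.{u, u, w} ι 11) (quotRep ρ L hL) := by
  have h1 := cf_add (Sy.{u, u, w} ι 11) ρ L hL
  rw [cf_irr (Sy.{u, u, w} ι 11) (show (Sy.{u, u, w} ι 11).P (subRep ρ L hL) (8 * 11 ^ m) from hV)] at h1
  have h2 : ∃ s, cf (Sy.{u, u, w} ι 11) ρ = (8 * 11 ^ m) ::ₘ (8 * 11 ^ m) ::ₘ s := by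
    rcases Nat.lt_or_ge 1 a with h | h
    · rw [H.two h]
      refine ⟨(11 ^ m + 11 ^ ((m + 1) % a)) ::ₘ {4 * 11 ^ m}, ?_⟩
      generalize 11 ^ m + 11 ^ ((m + 1) % a) = B
      generalize 4 * 11 ^ m = C
      generalize 8 * 11 ^ m = D
      rw [Multiset.cons_swap C D, Multiset.cons_swap B D]
      congr 1
      rw [← Multiset.cons_zero D, Multiset.cons_swap C D, Multiset.cons_swap B D]
      rfl
    · have hm0 : m = 0 := by have := H.hm; omega
      have ha1 : a = 1 := by have := H.hm; omega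
      subst hm0
      rw [H.one ha1]
      exact ⟨{0, 2, 4}, by decide⟩
  obtain ⟨s, hs⟩ := h2
  rw [hs, Multiset.singleton_add, Multiset.cons_inj_right] at h1
  rw [← h1]
  exact Multiset.mem_cons_self _ _

theorem Hyp.sm (H : Hyp ι ρ a m) {Z : Submodule k (I27 → k)} (hZ : ∀ g, ∀ x ∈ Z, ρ g x ∈ Z) (hZ0 : Z ≠ ⊥) :
    5 ≤ finrank k Z := by
  obtain ⟨c, ⟨X, hX, hc⟩, hc2⟩ := exists_inSoc_sub ι 11 hZ hZ0
  have key : ∀ n, 4 ≤ n → n < 11 → c = n * 11 ^ m → 5 ≤ finrank k Z := by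
    rintro n h4 h11 rfl
    obtain ⟨v, hv⟩ := hc.basS ι 11 h11
    have h1 := hv.li.fintype_card_le_finrank
    rw [Fintype.card_fin] at h1
    have h2 := Submodule.finrank_le X
    omega
  have h1 := hc2.mem_cf
  rcases Nat.lt_or_ge 1 a with h | h
  · rw [H.two h] at h1
    simp only [Multiset.mem_cons, Multiset.mem_singleton, or_self] at h1
    rcases h1 with h1 | h1 | h1
    · rw [h1] at hc2
      exact absurd hc2 (H.nB h)
    · exact key 4 le_rfl (by norm_num) h1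
    · exact key 8 (by norm_num) (by norm_num) h1
  · have hm0 : m = 0 := by have := H.hm; omega
    have ha1 : a = 1 := by have := H.hm; omega
    subst hm0
    rw [H.one ha1] at h1
    simp only [Multiset.mem_cons, Multiset.mem_singleton, or_self] at h1
    rcases h1 with h1 | h1 | h1 | h1
    · rw [h1] at hc2
      exact absurd hc2 H.n0
    · rw [h1] at hc2
      exact absurd hc2 (H.n2 ha1)
    · exact key 4 le_rfl (by norm_num) h1
    · exact key 8 (by norm_num) (by norm_num) h1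

include hK in
/-- **the structure** -/
theorem Hyp.exists_ms (H : Hyp ι ρ a m) :
    ∃ (F G : (I27 → k) →ₗ[k] (I27 → k)) (p r c : ℕ → (I27 → k)), Ms (tau ι m) ρ F G p r c := by
  obtain ⟨R, S⟩ := H.S
  obtain ⟨L, hL, hV⟩ := S.soc8
  have Z : Zf (tau ι m) ρ a L := {
    wt := fun ha e v hv hw => wt_of_cf ι hK ha H.hm (H.two ha) e v hv hw
    no10 := fun v hu hw => H.no10 ι hK v hu hw
    hom2 := fun ha hb φ hφ => H.hom2 ι ha hb φ hφ
    top8 := fun C y hu hw ht => top8_of ι hK H.hm hL hV (fun X hX hXV => S.uniq X L hX hL hXV hV) C y hu hw ht }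
  obtain ⟨n, hn⟩ := cf_spec (Sy.{u, u, w} ι 11) (quotRep ρ L hL)
  obtain ⟨y, h1, h2⟩ := low_of_JHn ι hK n hn (H.cf8 ι hL hV)
  obtain ⟨v, h3, h4⟩ := lift_low (tau ι m) ρ hL h1 h2
  obtain ⟨z, hz, hz1, hz2⟩ := exists_zz (tau ι m) hK Z h3 h4
  obtain ⟨C, Y, hC, hY, -, hC4, -⟩ := S.compl
  obtain ⟨q, hq, -⟩ := exists_chn ι 11 hC (by norm_num) hC4
  have hq' : C4 (tau ι m) ρ q := {
    zero := hq.zero
    ne := hq.ne 4 le_rfl
    u := by
      intro s hs t
      rw [hq.u s hs, tau_apply]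
    h := by
      intro s hs c
      rw [hq.h s hs, tau_apply]
    w := hq.w }
  have hf : finrank k (I27 → k) = 27 := by
    rw [Module.finrank_fintype_fun_eq_card]
    decide
  exact ms_of_zz hf hz hz1 hz2 hq' fun Z hZ hZ0 => H.sm ι hZ hZ0

end Cfsg.Agent.R2.H14.E11X
end

-- part: R2/H14/E11/Fin
section
/-!
# S5749, S5750, box E11: the patterns for `p = 11` are impossible (helper14)

`rest11` : `Rest p a ψ` for every configuration.
-/

set_option autoImplicit false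
set_option linter.unusedSectionVars false

namespace Cfsg.Agent.R2.H14.E11X

open Module Matrix Cfsg.Agent.H943.SL2Rel Cfsg.Agent.H943.SL2Mod Cfsg.Agent.H943.RepAdd
open Cfsg.Agent.R2.H28.SL2
open Cfsg.Agent.R2.H14.E11 (Wt Uf Zf ZZ Ms C4 Q_one Q_two a_pos exists_zz ms_of_zz lift10 false_of_Ms rv rv')
open Cfsg.Lie Cfsg
open Cfsg.Agent.ChevalleyStructure.E6Min.Basic
open Cfsg.Agent.H163.E6 (V V')
open Cfsg.Agent.R2.H9.E6
open Cfsg.Agent.R2.H22.Loc (Nts not_inSoc_two not_inSoc_pair)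
open Cfsg.Agent.R2.SL2 (tyl)
open Cfsg.Agent.R2.H8.Core (Rest psk)

universe u v w

section frame

variable {k : Type u} [Field k] [DecidableEq k] [IsAlgClosed k] {K : Type w} [Field K] [Fintype K] [DecidableEq K]
  (ι : K →+* k) {a : ℕ} [Fact (Nat.Prime 11)] [CharP k 11] [CharP K 11]
  {ψ : _root_.Matrix.SpecialLinearGroup (Fin 2) K →* ↥(Zgrp k)} {ρ ρ' : Representation k ↥(Zgrp k) (I27 → k)}

/-- the facts, `a ≥ 2` -/
theorem hyp_two (f : Fra 11 a ψ ρ ρ') (ha : 2 ≤ a) (nts : Nts ψ ρ) (nts' : Nts ψ ρ') {m : ℕ} (hm : m < a)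
    (hcf : cf (Sy.{u, u, w} ι 11) (Rr ρ ψ) = (11 ^ m + 11 ^ ((m + 1) % a)) ::ₘ (4 * 11 ^ m) ::ₘ (8 * 11 ^ m) ::ₘ {8 * 11 ^ m})
    (S : S11 ι (p := 11) (Rr ρ ψ) m {11 ^ m + 11 ^ ((m + 1) % a)}) : Hyp ι (Rr ρ ψ) a m where
  hm := hm
  S := ⟨_, S⟩
  two := fun _ => hcf
  one := fun h => by omega
  fix := f.fix
  n0 := fun h => f.soc_ne_zero ι h rfl
  n2 := fun h => by omega
  nB := fun _ => by
    have hne : m ≠ (m + 1) % a := by
      rcases Nat.lt_or_ge (m + 1) a with h | h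
      · rw [Nat.mod_eq_of_lt h]
        omega
      · have h1 : m + 1 = a := by omega
        rw [h1, Nat.mod_self]
        omega
    exact not_inSoc_pair f (by norm_num) nts nts' hne hm (Nat.mod_lt _ (by omega))

/-- the facts, `a = 1` -/
theorem hyp_one (f : Fra 11 a ψ ρ ρ') (ha : a = 1) (nts : Nts ψ ρ) (nts' : Nts ψ ρ')
    (hcf : cf (Sy.{u, u, w} ι 11) (Rr ρ ψ) = 0 ::ₘ (2 * 11 ^ 0) ::ₘ (4 * 11 ^ 0) ::ₘ (8 * 11 ^ 0) ::ₘ {8 * 11 ^ 0})
    (S : S11 ι (p := 11) (Rr ρ ψ) 0 {0, 2 * 11 ^ 0}) : Hyp ι (Rr ρ ψ) a 0 where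
  hm := by omega
  S := ⟨_, S⟩
  two := fun h => by omega
  one := fun _ => hcf
  fix := f.fix
  n0 := fun h => f.soc_ne_zero ι h rfl
  n2 := fun _ => not_inSoc_two f (by norm_num) (by rw [f.card, ha]; norm_num) nts nts' 0
  nB := fun h => by omega

end frame

/-- **the patterns for `p = 11`** -/
theorem rest11 {F : Type u} [Field F] [Fintype F] {K : Type v} [Field K] [Fintype K] {p a b : ℕ}
    {Γ M : Subgroup ↥(Zgrp F)} {ψ : ProjectiveSpecialLinearGroup (Fin 2) K →* ↥(Zgrp F)} (hC : Cfg p a b Γ M ψ) :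
    Rest p a ψ := by
  intro _ _ _ _ _ ι W f nts nts' hW hw
  have h11 : p = 11 := by
    rcases hW with h | h
    · exact h.1
    · exact h.2.1
  subst h11
  rcases hW with ⟨-, ha, hW⟩ | ⟨ha, -, hW⟩
  · obtain ⟨m, hm, hcf, S, S'⟩ := f.e11 ι rfl ha nts nts' hW hw
    obtain ⟨F₁, G₁, p₁, r₁, c₁, hM⟩ := (hyp_two ι f ha nts nts' hm hcf S).exists_ms ι f.card
    obtain ⟨F₂, G₂, p₂, r₂, c₂, hM'⟩ := (hyp_two ι f.swap ha nts' nts hm (by rw [f.cf_eq ι]; exact hcf) S').exists_ms ι f.card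
    exact false_of_Ms hC hM hM'
  · obtain ⟨hcf, S, S'⟩ := f.q11 ι rfl ha nts nts' hW hw
    obtain ⟨F₁, G₁, p₁, r₁, c₁, hM⟩ := (hyp_one ι f ha nts nts' hcf S).exists_ms ι f.card
    obtain ⟨F₂, G₂, p₂, r₂, c₂, hM'⟩ := (hyp_one ι f.swap ha nts' nts (by rw [f.cf_eq ι]; exact hcf) S').exists_ms ι f.card
    exact false_of_Ms hC hM hM'

end Cfsg.Agent.R2.H14.E11X
end

private theorem dce_49d0f46ae9d9 : _root_.True := by
  try have : _root_.True := by simp only [_root_.Cfsg.Agent.R2.H14.E11X.tau.congr_simp]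
  exact _root_.True.intro
end
end
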